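import Cfsg.Agent.Lib.Chev.Group.Canonical
import Cfsg.Agent.Lib.Chev.Group.Opposite
import Cfsg.Agent.Lib.Chev.Group.RootChar
import Cfsg.Agent.Lib.Chev.Group.Torus

/-! Positive and negative unipotent subgroups inside the Chevalley group, normalizers, Sylow. -/
set_option autoImplicit false
set_option maxRecDepth 100000
open Cfsg.Lie
open scoped Matrix MatrixGroups

namespace CfsgLib.Chev.Aut

open CfsgLib.Chev CfsgLib.Chev.Checks CfsgLib.Chev.Basic

variable {D : ChevalleyDatum} {F : Type*} [Field F]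

/-- root element in the group -/
noncomputable def xe (hD : D ∈ dataList) (r : ℕ) (t : F) : ↥(D.group F) := ⟨xGL hD F r t, xGL_mem_group hD r t⟩

abbrev UG (D : ChevalleyDatum) (F : Type*) [Field F] : Subgroup ↥(D.group F) :=
  (D.posUnipotent F).subgroupOf (D.group F)

abbrev VG (D : ChevalleyDatum) (F : Type*) [Field F] : Subgroup ↥(D.group F) :=
  (D.negUnipotent F).subgroupOf (D.group F)

abbrev BG (D : ChevalleyDatum) (F : Type*) [Field F] : Subgroup ↥(D.group F) :=
  (D.borelSubgroup F).subgroupOf (D.group F)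

abbrev HG (D : ChevalleyDatum) (F : Type*) [Field F] : Subgroup ↥(D.group F) :=
  (D.diagonalSubgroup F).subgroupOf (D.group F)

/-- the root subgroup in the group -/
noncomputable def XG (hD : D ∈ dataList) (F : Type*) [Field F] (r : ℕ) : Subgroup ↥(D.group F) :=
  (D.rootSubgroup F r).subgroupOf (D.group F)

theorem xe_val (hD : D ∈ dataList) (r : ℕ) (t : F) : (xe hD r t : GL D.Idx F) = xGL hD F r t := rfl

theorem xe_mat (hD : D ∈ dataList) (r : ℕ) (t : F) :
    ((xe hD r t : GL D.Idx F) : Matrix D.Idx D.Idx F) = D.x F r t := xGL_val hD r t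

theorem eq_xe (hD : D ∈ dataList) {g : ↥(D.group F)} {r : ℕ} {t : F}
    (h : ((g : GL D.Idx F) : Matrix D.Idx D.Idx F) = D.x F r t) : g = xe hD r t :=
  Subtype.ext (Units.ext (h.trans (xGL_val hD r t).symm))

theorem xe_zero (hD : D ∈ dataList) (r : ℕ) : xe hD r (0 : F) = 1 := Subtype.ext (xGL_zero hD r)

theorem xe_add (hD : D ∈ dataList) {r : ℕ} (hr : r < D.nroots) (t u : F) :
    xe hD r t * xe hD r u = xe hD r (t + u) := Subtype.ext (Rel.xGL_add hD hr t u)

theorem xe_inv (hD : D ∈ dataList) {r : ℕ} (hr : r < D.nroots) (t : F) : (xe hD r t)⁻¹ = xe hD r (-t) :=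
  Subtype.ext (Rel.xGL_inv hD hr t)

theorem xe_eq_one (hD : D ∈ dataList) {r : ℕ} (hr : r < D.nroots) {t : F} (h : xe hD r t = 1) : t = 0 :=
  (XOne.x_eq_one_iff hD hr t).1 (by
    rw [← xe_mat hD, h]; rfl)

theorem xe_injective (hD : D ∈ dataList) {r : ℕ} (hr : r < D.nroots) : Function.Injective (xe (F := F) hD r) :=
  fun t u h => by
    have h1 : xe hD r (t + -u) = 1 := by
      rw [← xe_add hD hr, h, xe_add hD hr, add_neg_cancel, xe_zero]
    exact (sub_eq_zero.1 ((sub_eq_add_neg t u).trans (xe_eq_one hD hr h1)))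

theorem xe_root_inj (hD : D ∈ dataList) {r s : ℕ} (hr : r < D.nroots) (hs : s < D.nroots) {t u : F} (ht : t ≠ 0)
    (h : xe hD r t = xe hD s u) : r = s := N.xGL_inj hD hr hs ht (congrArg Subtype.val h)

theorem mem_XG (hD : D ∈ dataList) {r : ℕ} (hr : r < D.nroots) {g : ↥(D.group F)} :
    g ∈ XG hD F r ↔ ∃ t : F, g = xe hD r t := by
  rw [XG, Subgroup.mem_subgroupOf, Rel.mem_rootSubgroup hD hr]
  exact ⟨fun ⟨t, h⟩ => ⟨t, Subtype.ext h⟩, fun ⟨t, h⟩ => ⟨t, congrArg Subtype.val h⟩⟩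

theorem xe_mem_XG (hD : D ∈ dataList) {r : ℕ} (hr : r < D.nroots) (t : F) : xe hD r t ∈ XG hD F r :=
  (mem_XG hD hr).2 ⟨t, rfl⟩

theorem xe_mem_UG (hD : D ∈ dataList) {r : ℕ} (hr : D.IsPosRoot r) (t : F) : xe hD r t ∈ UG D F :=
  Subgroup.mem_subgroupOf.2 (xGL_mem_pos hD hr t)

theorem xe_mem_VG (hD : D ∈ dataList) {r : ℕ} (hr : D.IsNegRoot r) (t : F) : xe hD r t ∈ VG D F :=
  Subgroup.mem_subgroupOf.2 (xGL_mem_neg hD hr t)

theorem UG_le_BG : UG D F ≤ BG D F := fun _ hx =>
  Subgroup.mem_subgroupOf.2 (Subgroup.mem_sup_left (Subgroup.mem_subgroupOf.1 hx))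

theorem BG_le_normalizer (hD : D ∈ dataList) : BG D F ≤ Subgroup.normalizer (UG D F : Set ↥(D.group F)) := by
  intro b hb
  have hle : D.borelSubgroup F ≤ Subgroup.normalizer (D.posUnipotent F : Set (GL D.Idx F)) :=
    sup_le Subgroup.le_normalizer (BH.diagonal_normalizes_pos hD)
  have h := Subgroup.mem_normalizer_iff.1 (hle (Subgroup.mem_subgroupOf.1 hb))
  rw [Subgroup.mem_normalizer_iff]
  intro x
  simp only [Subgroup.mem_subgroupOf, Subgroup.coe_mul, Subgroup.coe_inv]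
  exact h x

theorem ni_conj (hD : D ∈ dataList) {i : ℕ} (hi : i < D.rank) {s : ℕ} (hs : s < D.nroots) (t : F) :
    N.ni hD F i * xGL hD F s t * (N.ni hD F i)⁻¹ =
      xGL hD F (D.reflectRoot i s) ((Rel.eta hD i s : F) * t) := Rel.conj_GL hD hi hs t

theorem reflect_self (i : ℕ) : D.reflectRoot i (D.simple i) = D.neg (D.simple i) := by
  simp [ChevalleyDatum.reflectRoot]

theorem normalizer_UG (hD : D ∈ dataList) : Subgroup.normalizer (UG D F : Set ↥(D.group F)) = BG D F := by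
  refine le_antisymm ?_ (BG_le_normalizer hD)
  let P := BN.bnPair (F := F) hD
  have hle : P.B ≤ Subgroup.normalizer (UG D F : Set ↥(D.group F)) := BG_le_normalizer hD
  rw [CfsgLib.BNPair.Parabolic.eq_parabolic P hle]
  refine sup_le le_rfl ((Subgroup.closure_le _).2 fun n hn => ?_)
  obtain ⟨i, hi, he⟩ := BN.genSet_val hD hn.1
  exfalso
  have hp := N.simple_pos hD hi
  have h := (Subgroup.mem_normalizer_iff.1 hn.2 (xe hD (D.simple i) 1)).1 (xe_mem_UG hD hp 1)
  rw [Subgroup.mem_subgroupOf, Subgroup.coe_mul, Subgroup.coe_mul, Subgroup.coe_inv, he, xe_val,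
    ni_conj hD hi hp.1, reflect_self] at h
  have := BN.borel_not_neg hD (BN.neg_simple_neg hD hp) (Subgroup.mem_sup_left h)
  rcases Rel.eta_cases hD i (D.simple i) with e | e <;> simp [e] at this

theorem card_diag_coprime [Fintype F] (hD : D ∈ dataList) (p : ℕ) [Fact p.Prime] [CharP F p] :
    (Nat.card ↥(D.diagonalSubgroup F)).Coprime p := by
  classical
  obtain ⟨n, -, hq⟩ := FiniteField.card F p
  have hdvd : Nat.card ↥(D.diagonalSubgroup F) ∣ Nat.card (Fin D.rank → Fˣ) := by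
    rw [← Torus.range_torusHom hD]
    exact Subgroup.card_range_dvd _
  refine Nat.Coprime.coprime_dvd_left hdvd ?_
  rw [Nat.card_fun, Nat.card_units, Nat.card_eq_fintype_card, hq]
  refine Nat.Coprime.pow_left _ ((Nat.coprime_comm).1 ((Fact.out : p.Prime).coprime_iff_not_dvd.2 fun h => ?_))
  have h1 : p ∣ p ^ (n : ℕ) := dvd_pow_self p n.pos.ne'
  have h2 : 1 ≤ p ^ (n : ℕ) := Nat.one_le_pow _ _ (Fact.out : p.Prime).pos
  exact (Fact.out : p.Prime).not_dvd_one (by simpa [Nat.sub_sub_self h2] using Nat.dvd_sub h1 h)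

theorem isPGroup_UG [Fintype F] (hD : D ∈ dataList) (p : ℕ) [Fact p.Prime] [CharP F p] : IsPGroup p ↥(UG D F) := by
  classical
  obtain ⟨n, -, hq⟩ := FiniteField.card F p
  refine IsPGroup.of_card (n := (n : ℕ) * (D.nroots / 2)) ?_
  rw [Nat.card_congr (Subgroup.subgroupOfEquivOfLe (posUnipotent_le_group (D := D) (F := F))).toEquiv,
    U.card_posUnipotent hD, hq, ← pow_mul]

theorem exists_sylow [Fintype F] (hD : D ∈ dataList) (p : ℕ) [Fact p.Prime] [CharP F p] :
    ∃ S : Sylow p ↥(D.group F), (S : Subgroup ↥(D.group F)) = UG D F := by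
  classical
  obtain ⟨S, hS⟩ := IsPGroup.exists_le_sylow (isPGroup_UG (F := F) hD p)
  refine ⟨S, ?_⟩
  by_contra hne
  haveI : Group.IsNilpotent ↥(S : Subgroup ↥(D.group F)) := IsPGroup.isNilpotent S.isPGroup'
  set K := (UG D F).subgroupOf (S : Subgroup ↥(D.group F))
  have hK : K < ⊤ := lt_top_iff_ne_top.2 fun e => hne (le_antisymm (Subgroup.subgroupOf_eq_top.1 e) hS)
  obtain ⟨x, hx, hxK⟩ := SetLike.exists_of_lt (Group.normalizerCondition_of_isNilpotent K hK)
  have hxB : (x : ↥(D.group F)) ∈ BG D F := by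
    rw [← normalizer_UG hD, Subgroup.mem_normalizer_iff]
    intro y
    constructor
    · intro hy
      exact Subgroup.mem_subgroupOf.1 ((Subgroup.mem_normalizer_iff.1 hx ⟨y, hS hy⟩).1 (Subgroup.mem_subgroupOf.2 hy))
    · intro hy
      have hyS : y ∈ (S : Subgroup ↥(D.group F)) := by
        have := mul_mem (mul_mem (inv_mem x.2) (hS hy)) x.2
        simpa [mul_assoc] using this
      exact Subgroup.mem_subgroupOf.1 ((Subgroup.mem_normalizer_iff.1 hx ⟨y, hyS⟩).2 (Subgroup.mem_subgroupOf.2 hy))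
  obtain ⟨u, hu, h, hh, e⟩ := (BH.mem_borel_iff hD).1 (Subgroup.mem_subgroupOf.1 hxB)
  let h' : ↥(D.group F) := ⟨h, diagonal_le_group hD hh⟩
  have huS : (⟨u, posUnipotent_le_group hu⟩ : ↥(D.group F)) ∈ (S : Subgroup ↥(D.group F)) :=
    hS (Subgroup.mem_subgroupOf.2 hu)
  have hhS : h' ∈ (S : Subgroup ↥(D.group F)) := by
    have e' : h' = (⟨u, posUnipotent_le_group hu⟩ : ↥(D.group F))⁻¹ * x := Subtype.ext (by
      rw [Subgroup.coe_mul, Subgroup.coe_inv, ← e]; simp [h'])
    rw [e']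
    exact mul_mem (inv_mem huS) x.2
  have h1 : h' = 1 := by
    obtain ⟨k, hk⟩ := S.isPGroup' ⟨h', hhS⟩
    have hpow : (⟨h, hh⟩ : ↥(D.diagonalSubgroup F)) ^ p ^ k = 1 := by
      have := congrArg (fun z : ↥(S : Subgroup ↥(D.group F)) => ((z : ↥(D.group F)) : GL D.Idx F)) hk
      exact Subtype.ext (by simpa [h'] using this)
    have hord : orderOf (⟨h, hh⟩ : ↥(D.diagonalSubgroup F)) = 1 := Nat.eq_one_of_dvd_coprimes
      ((card_diag_coprime (F := F) hD p).pow_right k) (orderOf_dvd_natCard _) (orderOf_dvd_of_pow_eq_one hpow)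
    have h2 : h = 1 := congrArg Subtype.val (orderOf_eq_one_iff.1 hord)
    exact Subtype.ext h2
  refine hxK (Subgroup.mem_subgroupOf.2 (Subgroup.mem_subgroupOf.2 ?_))
  have : h = 1 := congrArg Subtype.val h1
  rw [← e, this, mul_one]
  exact hu

/-- a word sending the positive roots to the negative ones -/
abbrev Rev (D : ChevalleyDatum) (l : List ℕ) : Prop :=
  (∀ i ∈ l, i < D.rank) ∧ ∀ r, D.IsPosRoot r → D.IsNegRoot (N.act D l r)

theorem exists_rev (hD : D ∈ dataList) : ∃ l, Rev D l := by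
  obtain ⟨l, hl, h⟩ := Opposite.exists_w0 hD
  exact ⟨l, hl, fun r hr => (h r hr.1).2 hr⟩

theorem act_neg_root (hD : D ∈ dataList) {l : List ℕ} (hl : Rev D l) {r : ℕ} (hr : D.IsNegRoot r) :
    D.IsPosRoot (N.act D l r) := by
  have hn := Checks.neg_pos_of_neg hD hr.1 hr
  have h := hl.2 _ hn
  rw [N.act_neg hD hl.1 hr.1] at h
  have := Checks.neg_pos_of_neg hD h.1 h
  rwa [Checks.neg_neg_root hD (N.act_lt hD hl.1 hr.1)] at this

theorem rev_reverse (hD : D ∈ dataList) {l : List ℕ} (hl : Rev D l) : Rev D l.reverse := by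
  have hl' : ∀ i ∈ l.reverse, i < D.rank := fun i hi => hl.1 i (List.mem_reverse.1 hi)
  refine ⟨hl', fun r hr => ?_⟩
  have hlt := N.act_lt hD hl' hr.1
  refine (Checks.pos_or_neg hD hlt).resolve_left fun h => ?_
  have := hl.2 _ h
  rw [BN.act_reverse hD hl.1 hr.1] at this
  exact BN.borel_not_neg hD this (BN.mem_borel_of_pos hD hr (1 : ℚ)) |> one_ne_zero

/-- the element of the group given by a word -/
noncomputable def wG (hD : D ∈ dataList) (F : Type*) [Field F] (l : List ℕ) (hl : ∀ i ∈ l, i < D.rank) :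
    ↥(D.group F) := ⟨N.nW hD F l, monomial_le_group hD (N.nW_mem hD hl)⟩

theorem wG_conj (hD : D ∈ dataList) {l : List ℕ} (hl : ∀ i ∈ l, i < D.rank) {r : ℕ} (hr : r < D.nroots) :
    ∃ η : F, (η = 1 ∨ η = -1) ∧ ∀ t : F,
      wG hD F l hl * xe hD r t * (wG hD F l hl)⁻¹ = xe hD (N.act D l r) (η * t) := by
  obtain ⟨η, hη, h⟩ := N.nW_conj (F := F) hD hl hr
  refine ⟨(η : F), ?_, fun t => Subtype.ext (h t)⟩
  rcases hη with rfl | rfl
  · exact Or.inl (by simp)
  · exact Or.inr (by simp)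

theorem map_XG (hD : D ∈ dataList) {l : List ℕ} (hl : ∀ i ∈ l, i < D.rank) {r : ℕ} (hr : r < D.nroots) :
    (XG hD F r).map (MulAut.conj (wG hD F l hl)).toMonoidHom = XG hD F (N.act D l r) := by
  obtain ⟨η, hη, h⟩ := wG_conj (F := F) hD hl hr
  ext g
  simp only [Subgroup.mem_map, MulEquiv.coe_toMonoidHom, MulAut.conj_apply, mem_XG hD hr,
    mem_XG hD (N.act_lt hD hl hr)]
  constructor
  · rintro ⟨_, ⟨t, rfl⟩, rfl⟩; exact ⟨η * t, h t⟩
  · rintro ⟨t, rfl⟩
    refine ⟨_, ⟨η * t, rfl⟩, ?_⟩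
    rw [h]
    rcases hη with rfl | rfl <;> simp

theorem map_UG (hD : D ∈ dataList) [Finite F] {l : List ℕ} (hl : Rev D l) :
    (UG D F).map (MulAut.conj (wG hD F l hl.1)).toMonoidHom = VG D F ∧
      (VG D F).map (MulAut.conj (wG hD F l hl.1)).toMonoidHom = UG D F := by
  have h1 : (UG D F).map (MulAut.conj (wG hD F l hl.1)).toMonoidHom ≤ VG D F := by
    rw [Subgroup.map_le_iff_le_comap]
    intro g hg
    have hle : D.posUnipotent F ≤ (D.negUnipotent F).comap (MulAut.conj (N.nW hD F l)).toMonoidHom :=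
      RootGen.gen_le hD (P := D.IsPosRoot) fun r hr t => by
        obtain ⟨η, -, h⟩ := N.nW_conj (F := F) hD hl.1 hr.1
        rw [Subgroup.mem_comap, MulEquiv.coe_toMonoidHom, MulAut.conj_apply, h]
        exact xGL_mem_neg hD (hl.2 r hr) _
    exact Subgroup.mem_subgroupOf.2 (hle (Subgroup.mem_subgroupOf.1 hg))
  have h2 : (VG D F).map (MulAut.conj (wG hD F l hl.1)).toMonoidHom ≤ UG D F := by
    rw [Subgroup.map_le_iff_le_comap]
    intro g hg
    have hle : D.negUnipotent F ≤ (D.posUnipotent F).comap (MulAut.conj (N.nW hD F l)).toMonoidHom :=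
      RootGen.gen_le hD (P := D.IsNegRoot) fun r hr t => by
        obtain ⟨η, -, h⟩ := N.nW_conj (F := F) hD hl.1 hr.1
        rw [Subgroup.mem_comap, MulEquiv.coe_toMonoidHom, MulAut.conj_apply, h]
        exact xGL_mem_pos hD (act_neg_root hD hl hr) _
    exact Subgroup.mem_subgroupOf.2 (hle (Subgroup.mem_subgroupOf.1 hg))
  have c1 := Subgroup.card_le_of_le h1
  have c2 := Subgroup.card_le_of_le h2
  rw [Nat.card_congr (Subgroup.equivMapOfInjective _ _ (MulAut.conj _).injective).symm.toEquiv] at c1 c2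
  refine ⟨Subgroup.eq_of_le_of_card_ge h1 ?_, Subgroup.eq_of_le_of_card_ge h2 ?_⟩ <;>
    rw [Nat.card_congr (Subgroup.equivMapOfInjective _ _ (MulAut.conj _).injective).symm.toEquiv] <;> assumption

theorem UG_inf_VG (hD : D ∈ dataList) : UG D F ⊓ VG D F = ⊥ := by
  refine le_antisymm (fun g hg => ?_) bot_le
  exact Subgroup.mem_bot.2 (Subtype.ext (Subgroup.mem_bot.1 ((BH.borel_inf_neg hD).le
    ⟨Subgroup.mem_sup_left (Subgroup.mem_subgroupOf.1 hg.1), Subgroup.mem_subgroupOf.1 hg.2⟩)))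

/-- every automorphism may be corrected by an inner one so that it fixes both `U` and `V` -/
theorem exists_adjust [Finite F] (hD : D ∈ dataList) (θ : MulAut ↥(D.group F)) :
    ∃ (x : ↥(D.group F)) (φ : MulAut ↥(D.group F)), θ = MulAut.conj x * φ ∧
      (UG D F).map φ.toMonoidHom = UG D F ∧ (VG D F).map φ.toMonoidHom = VG D F := by
  classical
  haveI := Fintype.ofFinite F
  obtain ⟨p, hp⟩ := CharP.exists F
  haveI : Fact p.Prime := ⟨CharP.char_is_prime F p⟩
  obtain ⟨S, hS⟩ := exists_sylow (F := F) hD p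
  obtain ⟨l, hl⟩ := exists_rev hD
  obtain ⟨T, hT⟩ : ∃ T : Sylow p ↥(D.group F), (T : Subgroup ↥(D.group F)) = (UG D F).map θ.toMonoidHom := by
    refine ⟨Sylow.ofCard ((UG D F).map θ.toMonoidHom) ?_, rfl⟩
    rw [Nat.card_congr (Subgroup.equivMapOfInjective _ _ θ.injective).symm.toEquiv, ← hS]
    exact S.card_eq_multiplicity
  obtain ⟨g, hg⟩ := MulAction.exists_smul_eq ↥(D.group F) T S
  have hgU : ((UG D F).map θ.toMonoidHom).map (MulAut.conj g).toMonoidHom = UG D F := by
    rw [← hT, ← hS, ← hg]; rfl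
  set θ₁ : MulAut ↥(D.group F) := MulAut.conj g * θ
  have h1 : (UG D F).map θ₁.toMonoidHom = UG D F := by
    conv_rhs => rw [← hgU]
    rw [Subgroup.map_map]; rfl
  set n₀ := wG hD F l hl.1
  set g₀ := θ₁ n₀
  have hV : (VG D F).map θ₁.toMonoidHom = (UG D F).map (MulAut.conj g₀).toMonoidHom := by
    rw [← (map_UG hD hl).1, Subgroup.map_map]
    conv_rhs => rw [← h1, Subgroup.map_map]
    congr 1
    exact MonoidHom.ext fun z => by simp [g₀, n₀]
  have hint : UG D F ⊓ (UG D F).map (MulAut.conj g₀).toMonoidHom = ⊥ := by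
    rw [← hV]
    nth_rw 1 [← h1]
    rw [← Subgroup.map_inf _ _ _ θ₁.injective, UG_inf_VG hD, Subgroup.map_bot]
  obtain ⟨b, hb, m, hm, k, hk, u, hu, he⟩ := Canonical.exists_form hD g₀.2
  let b' : ↥(D.group F) := ⟨b, borel_le_group hD hb⟩
  let k' : ↥(D.group F) := ⟨k, diagonal_le_group hD hk⟩
  have hu0 : u ∈ D.posUnipotent F := RootGen.gen_le hD (fun r hr t => xGL_mem_pos hD hr.1 t) hu
  let u' : ↥(D.group F) := ⟨u, posUnipotent_le_group hu0⟩
  have heq : g₀ = b' * (wG hD F m hm * k') * u' := Subtype.ext he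
  have hk' : k' ∈ Subgroup.normalizer (UG D F : Set ↥(D.group F)) :=
    BG_le_normalizer hD (Subgroup.mem_subgroupOf.2 (Subgroup.mem_sup_right hk))
  have hb' : b' ∈ Subgroup.normalizer (UG D F : Set ↥(D.group F)) :=
    BG_le_normalizer hD (Subgroup.mem_subgroupOf.2 hb)
  have hm0 : Rev D m := by
    refine ⟨hm, fun r hr => (Checks.pos_or_neg hD (N.act_lt hD hm hr.1)).resolve_left fun hp' => ?_⟩
    obtain ⟨η, hη, hc⟩ := wG_conj (F := F) hD hm hr.1
    let z := b' * xe hD (N.act D m r) (η * 1) * b'⁻¹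
    have z1 : z ∈ UG D F := (Subgroup.mem_normalizer_iff.1 hb' _).1 (xe_mem_UG hD hp' _)
    have z2 : z ∈ (UG D F).map (MulAut.conj g₀).toMonoidHom := by
      refine ⟨u'⁻¹ * (k'⁻¹ * xe hD r 1 * k') * u', ?_, ?_⟩
      · refine mul_mem (mul_mem (inv_mem (Subgroup.mem_subgroupOf.2 hu0)) ?_) (Subgroup.mem_subgroupOf.2 hu0)
        exact (Subgroup.mem_normalizer_iff''.1 hk' _).1 (xe_mem_UG hD hr 1)
      · simp only [MulEquiv.coe_toMonoidHom, MulAut.conj_apply, z, ← hc, heq]
        group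
    have : z = 1 := Subgroup.mem_bot.1 (hint.le ⟨z1, z2⟩)
    rw [conj_eq_one_iff] at this
    have := xe_eq_one hD hp'.1 this
    rcases hη with rfl | rfl <;> simp at this
  refine ⟨g⁻¹ * b', MulAut.conj b'⁻¹ * θ₁, ?_, ?_, ?_⟩
  · simp only [θ₁, ← mul_assoc, ← map_mul]
    rw [mul_inv_cancel_right, inv_mul_cancel, map_one, one_mul]
  · rw [show (MulAut.conj b'⁻¹ * θ₁).toMonoidHom = (MulAut.conj b'⁻¹).toMonoidHom.comp θ₁.toMonoidHom from rfl,
      ← Subgroup.map_map, h1]
    exact Subgroup.mem_normalizer_iff_map_conj_eq.1 (inv_mem hb')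
  · rw [show (MulAut.conj b'⁻¹ * θ₁).toMonoidHom = (MulAut.conj b'⁻¹).toMonoidHom.comp θ₁.toMonoidHom from rfl,
      ← Subgroup.map_map, hV, Subgroup.map_map]
    conv_rhs => rw [← (map_UG hD hm0).1]
    have hku : k' * u' ∈ Subgroup.normalizer (UG D F : Set ↥(D.group F)) :=
      mul_mem hk' (Subgroup.le_normalizer (Subgroup.mem_subgroupOf.2 hu0))
    conv_rhs => rw [← Subgroup.mem_normalizer_iff_map_conj_eq.1 hku, Subgroup.map_map]
    congr 1
    refine MonoidHom.ext fun z => ?_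
    simp only [MonoidHom.comp_apply, MulEquiv.coe_toMonoidHom, MulAut.conj_apply, heq]
    show _ = wG hD F m hm * (k' * u' * z * (k' * u')⁻¹) * (wG hD F m hm)⁻¹
    group

theorem rev_simple (hD : D ∈ dataList) {l : List ℕ} (hl : Rev D l) {i : ℕ} (hi : i < D.rank) :
    ∃ j, j < D.rank ∧ N.act D l (D.simple i) = D.neg (D.simple j) := by
  set r := N.act D l (D.simple i)
  have hr : D.IsNegRoot r := hl.2 _ (N.simple_pos hD hi)
  have hs : D.IsPosRoot (D.neg r) := Checks.neg_pos_of_neg hD hr.1 hr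
  rcases RootChar.exists_pred hD hs with ⟨a, ha, e⟩ | ⟨a, s, ha, hsh, hsr, hc⟩
  · exact ⟨a, ha, by rw [← e, Checks.neg_neg_root hD hr.1]⟩
  · exfalso
    have hl' := rev_reverse hD hl
    have hsl : s < D.nroots := hsr.trans hs.1
    have na := hl'.2 _ (N.simple_pos hD ha)
    have ns := hl'.2 s ((Weight.pos_iff hD hsl).2 hsh)
    have key : ∀ j < D.rank, Weight.coef hD j (N.act D l.reverse (D.simple a)) +
        Weight.coef hD j (N.act D l.reverse s) = -Weight.coef hD j (D.simple i) := by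
      intro j hj
      have hsum : Weight.coef hD j (N.act D l.reverse (D.neg r)) =
          Weight.coef hD j (N.act D l.reverse (D.simple a)) + Weight.coef hD j (N.act D l.reverse s) := by
        rw [Weyl.coef_act hD hl'.1 hj hs.1, Weyl.coef_act hD hl'.1 hj (Rel.simple_lt hD ha),
          Weyl.coef_act hD hl'.1 hj hsl, ← Finset.sum_add_distrib]
        refine Finset.sum_congr rfl fun b hb => ?_
        rw [Weight.coef_chain hD (Finset.mem_range.1 hb) (Rel.simple_lt hD ha) hsl le_rfl hc]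
        push_cast
        ring
      have hback : N.act D l.reverse (D.neg r) = D.neg (D.simple i) := by
        rw [N.act_neg hD hl'.1 hr.1]
        congr 1
        refine BN.act_inj hD hl.1 (N.act_lt hD hl'.1 hr.1) (Rel.simple_lt hD hi) ?_
        rw [BN.act_reverse hD hl.1 hr.1]
      rw [← hsum, hback, Weight.coef_neg hD hj (Rel.simple_lt hD hi)]
    have only : ∀ {z : ℕ}, D.IsNegRoot z → (∀ j < D.rank, j ≠ i → Weight.coef hD j z = 0) →
        Weight.coef hD i z ≤ -1 := by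
      intro z hz h0
      obtain ⟨j, hj, hjp⟩ := Weyl.exists_coef_pos hD (Checks.neg_pos_of_neg hD hz.1 hz)
      rw [Weight.coef_neg hD hj hz.1] at hjp
      by_cases e : j = i
      · subst e; omega
      · rw [h0 j hj e] at hjp; omega
    have zero : ∀ j < D.rank, j ≠ i → Weight.coef hD j (N.act D l.reverse (D.simple a)) = 0 ∧
        Weight.coef hD j (N.act D l.reverse s) = 0 := by
      intro j hj hne
      have := key j hj
      rw [Weight.coef_simple hD hi hj, if_neg (Ne.symm hne)] at this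
      have := RootGen.coef_nonpos hD hj na
      have := RootGen.coef_nonpos hD hj ns
      omega
    have := only na fun j hj hne => (zero j hj hne).1
    have := only ns fun j hj hne => (zero j hj hne).2
    have h2 := key i hi
    rw [Weight.coef_simple hD hi hi, if_pos rfl] at h2
    omega

end CfsgLib.Chev.Aut
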