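import Cfsg.Agent.Lib.Chev.Aut.Out

/-! Existence of graph automorphisms by Steinberg's relations. -/
set_option autoImplicit false
set_option maxRecDepth 100000
open Cfsg.Lie
open scoped Matrix MatrixGroups

namespace CfsgLib.Chev.Aut

open CfsgLib.Chev CfsgLib.Chev.Checks CfsgLib.Chev.Basic

/-- a root permutation with signs and exponents -/
structure GraphData where
  root : List ℕ
  sign : List ℤ
  expo : List ℕ

def gRoot (G : GraphData) (r : ℕ) : ℕ := G.root.getD r 0
def gSign (G : GraphData) (r : ℕ) : ℤ := G.sign.getD r 0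
def gExpo (G : GraphData) (r : ℕ) : ℕ := G.expo.getD r 0

variable {D : ChevalleyDatum} {F : Type*} [Field F]

/-- terms `x_root(coeff t^a u^b)` -/
abbrev GTerm := ℕ × ℤ × ℕ × ℕ

def srcTerms (D : ChevalleyDatum) (G : GraphData) (r s : ℕ) : List GTerm :=
  (D.commTerms (gRoot G r) (gRoot G s)).map fun c =>
    (c.1, c.2.1 * (-1) ^ c.2.2.1 * gSign G r ^ c.2.2.1 * gSign G s ^ c.2.2.2, gExpo G r * c.2.2.1, gExpo G s * c.2.2.2)

def tgtTerms (D : ChevalleyDatum) (G : GraphData) (r s : ℕ) : List GTerm :=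
  (D.commTerms r s).map fun c =>
    (gRoot G c.1, gSign G c.1 * (c.2.1 * (-1) ^ c.2.2.1), c.2.2.1 * gExpo G c.1, c.2.2.2 * gExpo G c.1)

def redTerms (m : ℤ) (L : List GTerm) : List GTerm :=
  (L.map fun q => (q.1, q.2.1 % m, q.2.2)).filter fun q => q.2.1 != 0

def commOK (D : ChevalleyDatum) (m : ℤ) (L : List GTerm) : Bool :=
  L.all fun a => decide (a.1 < D.nroots) && L.all fun b => a.1 == b.1 ||
    (b.1 != D.neg a.1 && (D.commTerms a.1 b.1).all fun c => c.2.1 % m == 0)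

def relOK (D : ChevalleyDatum) (G : GraphData) (m : ℤ) : Bool :=
  (List.range D.nroots).all fun r => (List.range D.nroots).all fun s =>
    s == r || s == D.neg r || (gRoot G s != gRoot G r && gRoot G s != D.neg (gRoot G r) &&
      commOK D m (redTerms m (srcTerms D G r s)) &&
      (redTerms m (srcTerms D G r s)).isPerm (redTerms m (tgtTerms D G r s)) &&
      (D.commTerms r s).all fun c => decide (c.1 < D.nroots))

def dataOK (D : ChevalleyDatum) (G : GraphData) (p : ℕ) : Bool :=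
  (List.range D.nroots).all fun r => decide (gRoot G r < D.nroots) && (gSign G r == 1 || gSign G r == -1) &&
    (gExpo G r == 1 || (gExpo G r == p && decide (1 < p))) && (List.range D.nroots).any (fun s => gRoot G s == r) &&
    (decide (D.nroots / 2 ≤ r) == decide (D.nroots / 2 ≤ gRoot G r))

def term_val (t u : F) (q : GTerm) : F := (q.2.1 : F) * t ^ q.2.2.1 * u ^ q.2.2.2

noncomputable def termGL (hD : D ∈ dataList) (t u : F) (q : GTerm) : GL D.Idx F := xGL hD F q.1 (term_val t u q)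

theorem cast_mod {m : ℤ} (hm : (m : F) = 0) (z : ℤ) : ((z % m : ℤ) : F) = (z : F) := by
  have h := congrArg (fun x : ℤ => (x : F)) (Int.emod_add_mul_ediv z m)
  simpa [hm] using h

theorem prod_red (hD : D ∈ dataList) {m : ℤ} (hm : (m : F) = 0) (t u : F) (L : List GTerm) :
    ((redTerms m L).map (termGL hD t u)).prod = (L.map (termGL hD t u)).prod := by
  induction L with
  | nil => rfl
  | cons q L ih =>
    have e : termGL hD t u (q.1, q.2.1 % m, q.2.2) = termGL hD t u q := by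
      simp only [termGL, term_val, cast_mod hm]
    by_cases hz : q.2.1 % m = 0
    · have h1 : termGL hD t u q = 1 := by
        rw [← e, termGL, term_val, hz]; simp [xGL_zero]
      rw [List.map_cons (f := termGL hD t u), List.prod_cons, h1, one_mul, ← ih]
      simp [redTerms, hz]
    · rw [List.map_cons (f := termGL hD t u), List.prod_cons, ← ih, ← e]
      simp [redTerms, hz]

theorem commute_terms (hD : D ∈ dataList) {m : ℤ} (hm : (m : F) = 0) (t u : F) {L : List GTerm}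
    (hok : commOK D m L = true) {a b : GTerm} (ha : a ∈ L) (hb : b ∈ L) :
    Commute (termGL hD t u a) (termGL hD t u b) := by
  simp only [commOK, List.all_eq_true, Bool.and_eq_true, decide_eq_true_eq, Bool.or_eq_true, beq_iff_eq,
    bne_iff_ne] at hok
  obtain ⟨hal, h⟩ := hok a ha
  have hbl := (hok b hb).1
  by_cases hab : a.1 = b.1
  · show _ * _ = _ * _
    simp only [termGL, hab, Rel.xGL_add hD hbl, add_comm]
  · obtain ⟨hn, hc⟩ := (h b hb).resolve_left hab
    show _ * _ = _ * _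
    have hz : Rel.wordGL hD (D.commWord F a.1 b.1 (term_val t u a) (term_val t u b)) = 1 := by
      rw [Rel.wordGL]
      refine List.prod_eq_one fun x hx => ?_
      simp only [ChevalleyDatum.commWord, List.map_map, List.mem_map, Function.comp_apply] at hx
      obtain ⟨c, hcm, rfl⟩ := hx
      have : (c.2.1 : F) = 0 := by rw [← cast_mod hm, hc c hcm]; simp
      simp [this, xGL_zero]
    have := Rel.comm_GL (F := F) hD hal hbl (Ne.symm hab) hn (term_val t u a) (term_val t u b)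
    rw [hz, mul_one] at this
    exact this.symm

theorem exists_graph' (hD : D ∈ dataList) (G : GraphData) (p : ℕ) (m : ℤ) (hm : (m : F) = 0)
    (hp : 1 < p → CharP F p ∧ p.Prime) (hperf : 1 < p → ∀ x : F, ∃ y : F, y ^ p = x)
    (hrel : relOK D G m = true) (hdata : dataOK D G p = true) :
    ∃ φ : MulAut ↥(D.group F), ∀ r, r < D.nroots → ∀ t : F,
      φ (xe hD r t) = xe hD (gRoot G r) ((gSign G r : F) * t ^ gExpo G r) := by
  classical
  simp only [dataOK, List.all_eq_true, List.mem_range, Bool.and_eq_true, decide_eq_true_eq, Bool.or_eq_true,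
    beq_iff_eq, List.any_eq_true] at hdata
  have hlt := fun r hr => (hdata r hr).1.1.1.1
  have hsgn : ∀ r, r < D.nroots → (gSign G r : F) * (gSign G r : F) = 1 := fun r hr => by
    rcases (hdata r hr).1.1.1.2 with e | e <;> simp [e]
  have hpow : ∀ r, r < D.nroots → ∃ π : F →+* F, (∀ x, π x = x ^ gExpo G r) ∧ Function.Surjective π := by
    intro r hr
    rcases (hdata r hr).1.1.2 with e | ⟨e, h1⟩
    · exact ⟨RingHom.id F, fun x => by rw [e, pow_one]; rfl, fun x => ⟨x, rfl⟩⟩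
    · obtain ⟨hc, hprime⟩ := hp h1
      haveI := Fact.mk hprime
      exact ⟨frobenius F p, fun x => by rw [e]; rfl, fun x => hperf h1 x⟩
  let f : Fin D.nroots × F → ↥(D.group F) := fun q =>
    xe hD (gRoot G q.1) ((gSign G q.1 : F) * q.2 ^ gExpo G q.1)
  have hf : ∀ r, r < D.nroots → ∀ t : F, FreeGroup.lift f (D.stX r t) =
      xe hD (gRoot G r) ((gSign G r : F) * t ^ gExpo G r) := fun r hr t => by
    simp [ChevalleyDatum.stX, hr, f]
  have hrels : ∀ g ∈ D.steinbergRelsAB F, FreeGroup.lift f g = 1 := by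
    rintro g (⟨r, t, u, hr, rfl⟩ | ⟨r, s, t, u, hr, hs, h1, h2, rfl⟩)
    · obtain ⟨π, hπ, -⟩ := hpow r hr
      rw [map_mul, map_mul, map_inv, hf r hr, hf r hr, hf r hr, mul_inv_eq_one, xe_add hD (hlt r hr)]
      congr 1
      rw [← hπ, ← hπ, ← hπ, map_add]; ring
    · simp only [relOK, List.all_eq_true, List.mem_range, Bool.or_eq_true, beq_iff_eq, Bool.and_eq_true,
        bne_iff_ne, decide_eq_true_eq] at hrel
      obtain ⟨⟨⟨⟨hne, hne2⟩, hcomm⟩, hperm⟩, hterm⟩ := (hrel r hr s hs).resolve_left (not_or.2 ⟨h1, h2⟩)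
      rw [map_mul, map_mul, map_mul, map_mul, map_inv, map_inv, map_inv, hf r hr, hf s hs, mul_inv_eq_one]
      refine Subtype.ext ?_
      simp only [Subgroup.coe_mul, Subgroup.coe_inv, xe_val]
      have hc := Rel.comm_GL (F := F) hD (hlt r hr) (hlt s hs) hne hne2 ((gSign G r : F) * t ^ gExpo G r)
        ((gSign G s : F) * u ^ gExpo G s)
      rw [mul_assoc _ (xGL hD F (gRoot G s) _) (xGL hD F (gRoot G r) _), hc]
      have hsrc : Rel.wordGL hD (D.commWord F (gRoot G r) (gRoot G s) ((gSign G r : F) * t ^ gExpo G r)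
          ((gSign G s : F) * u ^ gExpo G s)) = ((srcTerms D G r s).map (termGL hD t u)).prod := by
        simp only [Rel.wordGL, ChevalleyDatum.commWord, srcTerms, List.map_map]
        congr 1
        refine List.map_congr_left fun c _ => ?_
        simp only [Function.comp_apply, termGL, term_val]
        congr 1
        push_cast
        rw [neg_pow, mul_pow, mul_pow, ← pow_mul, ← pow_mul]
        ring
      have htgt : ((FreeGroup.lift f (D.stWord (D.commWord F r s t u)) : ↥(D.group F)) : GL D.Idx F) =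
          ((tgtTerms D G r s).map (termGL hD t u)).prod := by
        simp only [ChevalleyDatum.stWord, ChevalleyDatum.commWord, map_list_prod, Subgroup.val_list_prod,
          tgtTerms, List.map_map]
        congr 1
        refine List.map_congr_left fun c hc => ?_
        simp only [Function.comp_apply, termGL, term_val, hf c.1 (hterm c hc), xe_val]
        congr 1
        obtain ⟨π, hπ, -⟩ := hpow c.1 (hterm c hc)
        rw [← hπ, map_mul, map_mul, map_pow, map_pow, map_neg, map_intCast, hπ t, hπ u, neg_pow, ← pow_mul, ← pow_mul]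
        push_cast
        ring
      have hpe : ((srcTerms D G r s).map (termGL hD t u)).prod = ((tgtTerms D G r s).map (termGL hD t u)).prod := by
        rw [← prod_red hD hm t u (srcTerms D G r s), ← prod_red hD hm t u (tgtTerms D G r s)]
        refine ((List.isPerm_iff.1 hperm).map _).prod_eq' ?_
        rw [List.pairwise_iff_forall_sublist]
        intro x y hxy
        have hx := hxy.subset (List.mem_cons_self (a := x) (l := [y]))
        have hy := hxy.subset (List.mem_cons_of_mem x (List.mem_cons_self (a := y) (l := [])))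
        obtain ⟨a, ha, rfl⟩ := List.mem_map.1 hx
        obtain ⟨b, hb, rfl⟩ := List.mem_map.1 hy
        exact commute_terms hD hm t u hcomm ha hb
      rw [hsrc, hpe, ← htgt]
      group
  let Φ : PresentedGroup (D.steinbergRelsAB F) →* ↥(D.group F) := PresentedGroup.toGroup hrels
  have hΦX : ∀ r, r < D.nroots → ∀ t : F, Φ (PresentedGroup.mk _ (D.stX r t)) =
      xe hD (gRoot G r) ((gSign G r : F) * t ^ gExpo G r) := fun r hr t => by
    simp only [ChevalleyDatum.stX, hr, dite_true]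
    exact PresentedGroup.toGroup.of hrels
  have hsur : Function.Surjective Φ := by
    intro g
    have hle : D.group F ≤ Φ.range.map (D.group F).subtype := by
      refine (Subgroup.closure_le _).2 ?_
      rintro x ⟨s, u, hx⟩
      obtain ⟨r, hr, e⟩ := (hdata s s.2).1.2
      obtain ⟨π, hπ, hπs⟩ := hpow r hr
      obtain ⟨t, ht⟩ := hπs ((gSign G r : F) * u)
      refine ⟨xe hD s u, ⟨PresentedGroup.mk _ (D.stX r t), ?_⟩,
        Units.ext ((xGL_val hD s u).trans ((Checks.x_of_lt s.2 u).trans hx.symm))⟩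
      rw [hΦX r hr, ← hπ, ht, ← mul_assoc, hsgn r hr, one_mul, e]
    obtain ⟨y, ⟨z, hz⟩, e⟩ := hle g.2
    exact ⟨z, hz.trans (Subtype.ext e)⟩
  have hR : D.steinbergRelsAB F ⊆ D.steinbergRels F := Abstract.relsAB_subset
  let π₀ := Abstract.onto (F := F) hD hR
  have hπ₀ : Function.Surjective π₀ := Abstract.onto_surjective hD hR
  have hker : π₀.ker ≤ Φ.ker := fun z hz => by
    have hzc : z ∈ Subgroup.center (PresentedGroup (D.steinbergRelsAB F)) :=
      (Abstract.ker_eq_center (F := F) hD subset_rfl hR).le hz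
    rw [MonoidHom.mem_ker, ← Subgroup.mem_bot, ← Abstract.center_group_trivial hD, Subgroup.mem_center_iff]
    intro g
    obtain ⟨x, rfl⟩ := hsur g
    rw [← map_mul, Subgroup.mem_center_iff.1 hzc x, map_mul]
  let ψ : ↥(D.group F) →* ↥(D.group F) := π₀.liftOfSurjective hπ₀ ⟨Φ, hker⟩
  have hψ : ∀ z, ψ (π₀ z) = Φ z := fun z => MonoidHom.liftOfRightInverse_comp_apply _ _ _ ⟨Φ, hker⟩ z
  have hψsur : Function.Surjective ψ := fun g => by
    obtain ⟨z, rfl⟩ := hsur g; exact ⟨π₀ z, hψ z⟩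
  have hψinj : Function.Injective ψ := by
    rcases finite_or_infinite F with hfin | hinf
    · exact Finite.injective_iff_surjective.2 hψsur
    obtain ⟨a, ha⟩ := Infinite.exists_notMem_finset ({0, 1} : Finset F)
    simp only [Finset.mem_insert, Finset.mem_singleton, not_or] at ha
    have hperfect : commutator ↥(D.group F) = ⊤ := by
      have hD' := hD
      simp only [dataList, List.mem_cons, List.not_mem_nil, or_false] at hD'
      rcases hD' with rfl | rfl | rfl | rfl | rfl | rfl | rfl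
      · exact Simple.perfect_small (Or.inl rfl) ⟨a, ha⟩
      · exact Simple.perfect_small (Or.inr rfl) ⟨a, ha⟩
      all_goals exact Simple.perfect_big (by simp)
    have hs := Simple.simple_of_perfect hD hperfect
    have hnt := Simple.nontrivial_group (F := F) hD
    rw [← MonoidHom.ker_eq_bot_iff]
    refine (hs.1.eq_bot_or_eq_top_of_normal ψ.ker ψ.normal_ker).resolve_right fun h => ?_
    obtain ⟨g, hg⟩ := exists_ne (1 : ↥(D.group F))
    obtain ⟨z, rfl⟩ := hψsur g
    exact hg (MonoidHom.mem_ker.1 (h ▸ Subgroup.mem_top z))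
  refine ⟨MulEquiv.ofBijective ψ ⟨hψinj, hψsur⟩, fun r hr t => ?_⟩
  show ψ (xe hD r t) = _
  have : π₀ (PresentedGroup.mk _ (D.stX r t)) = xe hD r t := Subtype.ext (Abstract.canon_X hD hR hr t)
  rw [← this, hψ, hΦX r hr]

theorem exists_graph [Finite F] (hD : D ∈ dataList) (G : GraphData) (p : ℕ) (m : ℤ) (hm : (m : F) = 0)
    (hp : 1 < p → CharP F p ∧ p.Prime) (hrel : relOK D G m = true) (hdata : dataOK D G p = true) :
    ∃ φ : MulAut ↥(D.group F), ∀ r, r < D.nroots → ∀ t : F,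
      φ (xe hD r t) = xe hD (gRoot G r) ((gSign G r : F) * t ^ gExpo G r) :=
  exists_graph' hD G p m hm hp (fun h x => by
    obtain ⟨hc, hprime⟩ := hp h
    have := Fact.mk hprime
    exact Finite.injective_iff_surjective.1 (frobenius F p).injective x) hrel hdata

/-- the conditions at the nodes -/
def nodeOK (D : ChevalleyDatum) (G : GraphData) (l : List ℕ) : Bool :=
  (List.range D.rank).all fun i => gRoot G (D.simple i) == D.simple (l.getD i 0) &&
    gRoot G (ns D i) == ns D (l.getD i 0)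

theorem exists_std [Finite F] (hD : D ∈ dataList) (G : GraphData) (p : ℕ) (m : ℤ) (hm : (m : F) = 0)
    (hp : 1 < p → CharP F p ∧ p.Prime) (hrel : relOK D G m = true) (hdata : dataOK D G p = true)
    (π : Equiv.Perm (Fin D.rank)) (hπ : nodeOK D G (imgs π) = true) :
    ∃ φ : MulAut ↥(D.group F), Std hD φ π := by
  obtain ⟨φ, hφ⟩ := exists_graph (F := F) hD G p m hm hp hrel hdata
  simp only [dataOK, List.all_eq_true, List.mem_range, Bool.and_eq_true, decide_eq_true_eq,
    beq_iff_eq, decide_eq_decide] at hdata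
  simp only [nodeOK, List.all_eq_true, List.mem_range, Bool.and_eq_true, beq_iff_eq] at hπ
  refine ⟨φ, std_of_root_maps hD φ (gRoot G) π (fun r hr t => ⟨_, hφ r hr t⟩) (fun r hr => ?_) (fun r hr => ?_)
    fun i => ?_⟩
  · have h := hdata r hr.1
    exact (Weight.pos_iff hD h.1.1.1.1).2 (h.2.1 ((Weight.pos_iff hD hr.1).1 hr))
  · have h := hdata r hr.1
    refine (Weight.neg_iff hD h.1.1.1.1).2 (Nat.not_le.1 fun h' => ?_)
    exact absurd ((Weight.neg_iff hD hr.1).1 hr) (Nat.not_lt.2 (h.2.2 h'))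
  · have h := hπ i i.2
    rwa [imgs_getD] at h

namespace GData
/-- data d4a -/
def d4a : GraphData := ⟨[0, 1, 2, 6, 7, 10, 3, 4, 8, 9, 5, 11, 12, 18, 14, 15, 19, 20, 13, 16, 17, 21, 22, 23], [1, 1, 1, -1, -1, 1, -1, -1, 1, 1, 1, 1, 1, 1, 1, 1, -1, -1, 1, -1, -1, 1, 1, 1], [1, 1, 1, 1, 1, 1, 1, 1, 1, 1, 1, 1, 1, 1, 1, 1, 1, 1, 1, 1, 1, 1, 1, 1]⟩

/-- data d4b -/
def d4b : GraphData := ⟨[0, 1, 3, 2, 4, 5, 6, 8, 7, 9, 11, 10, 13, 12, 14, 16, 15, 17, 18, 19, 21, 20, 22, 23], [1, 1, 1, 1, 1, 1, 1, 1, 1, 1, 1, 1, 1, 1, 1, 1, 1, 1, 1, 1, 1, 1, 1, 1], [1, 1, 1, 1, 1, 1, 1, 1, 1, 1, 1, 1, 1, 1, 1, 1, 1, 1, 1, 1, 1, 1, 1, 1]⟩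

/-- data e6 -/
def e6 : GraphData := ⟨[0, 1, 2, 5, 16, 3, 6, 17, 8, 19, 22, 11, 26, 30, 33, 35, 4, 7, 18, 9, 20, 23, 10, 21, 24, 25, 12, 27, 31, 34, 13, 28, 32, 14, 29, 15, 56, 42, 57, 39, 43, 58, 37, 40, 44, 59, 46, 47, 50, 61, 48, 51, 62, 53, 64, 67, 36, 38, 41, 45, 60, 49, 52, 63, 54, 65, 68, 55, 66, 69, 70, 71], [1, 1, 1, 1, -1, 1, 1, -1, 1, -1, -1, 1, -1, 1, -1, 1, -1, -1, 1, -1, 1, 1, -1, 1, 1, 1, -1, 1, -1, 1, 1, -1, 1, -1, 1, 1, 1, 1, -1, 1, -1, 1, 1, -1, 1, -1, 1, 1, 1, -1, 1, 1, -1, 1, -1, -1, 1, -1, 1, -1, 1, -1, -1, 1, -1, 1, 1, -1, 1, 1, 1, 1], [1, 1, 1, 1, 1, 1, 1, 1, 1, 1, 1, 1, 1, 1, 1, 1, 1, 1, 1, 1, 1, 1, 1, 1, 1, 1, 1, 1, 1, 1, 1, 1, 1, 1, 1, 1, 1, 1, 1, 1, 1, 1, 1, 1, 1, 1, 1, 1, 1, 1, 1, 1, 1, 1, 1, 1, 1, 1, 1, 1, 1, 1, 1, 1, 1, 1, 1, 1, 1, 1, 1, 1]⟩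

/-- data f4 -/
def f4 : GraphData := ⟨[3, 7, 8, 0, 9, 11, 18, 1, 2, 4, 15, 5, 16, 21, 23, 10, 12, 19, 6, 17, 22, 13, 20, 14, 33, 27, 34, 25, 30, 41, 28, 35, 37, 24, 26, 31, 42, 32, 43, 45, 46, 29, 36, 38, 47, 39, 40, 44], [1, 1, 1, 1, 1, 1, 1, 1, 1, 1, 1, 1, 1, 1, 1, 1, 1, 1, 1, 1, 1, 1, 1, 1, 1, 1, 1, 1, 1, 1, 1, 1, 1, 1, 1, 1, 1, 1, 1, 1, 1, 1, 1, 1, 1, 1, 1, 1], [1, 1, 1, 2, 1, 1, 1, 2, 2, 2, 2, 2, 2, 2, 2, 1, 1, 1, 2, 2, 2, 1, 1, 1, 1, 1, 1, 2, 2, 2, 1, 1, 1, 2, 2, 2, 2, 2, 2, 2, 2, 1, 1, 1, 2, 1, 1, 1]⟩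

/-- data g2 -/
def g2 : GraphData := ⟨[2, 3, 0, 1, 5, 4, 7, 6, 10, 11, 8, 9], [1, 1, 1, 1, 1, 1, 1, 1, 1, 1, 1, 1], [1, 1, 3, 3, 3, 1, 1, 3, 3, 3, 1, 1]⟩

/-- data b2 -/
def b2 : GraphData := ⟨[1, 0, 3, 2, 5, 4, 7, 6], [1, 1, 1, 1, 1, 1, 1, 1], [1, 2, 2, 1, 1, 2, 2, 1]⟩

theorem b2_ok : relOK chevB2 b2 2 = true ∧ dataOK chevB2 b2 2 = true := ⟨by decide +kernel, by decide +kernel⟩

theorem d4a_ok : relOK chevD4 d4a 0 = true ∧ dataOK chevD4 d4a 1 = true := ⟨by decide +kernel, by decide +kernel⟩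

theorem d4b_ok : relOK chevD4 d4b 0 = true ∧ dataOK chevD4 d4b 1 = true := ⟨by decide +kernel, by decide +kernel⟩

theorem e6_ok : relOK chevE6 e6 0 = true ∧ dataOK chevE6 e6 1 = true := ⟨by decide +kernel, by decide +kernel⟩

theorem f4_ok : relOK chevF4 f4 2 = true ∧ dataOK chevF4 f4 2 = true := ⟨by decide +kernel, by decide +kernel⟩

theorem g2_ok : relOK chevG2 g2 3 = true ∧ dataOK chevG2 g2 3 = true := ⟨by decide +kernel, by decide +kernel⟩

end GData

end CfsgLib.Chev.Aut
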