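import Mathlib

/-! Additive bijections of a finite field compatible with inversion are field automorphisms (Hua). -/
set_option autoImplicit false

namespace CfsgLib.Chev.Aut

variable {F : Type*} [Field F] [Finite F]

theorem field_of_hua (f g : F → F) (hf : ∀ x y, f (x + y) = f x + f y) (hg : ∀ x y, g (x + y) = g x + g y)
    (hinj : Function.Injective f) (h1 : f 1 = 1) (hfg : ∀ s, s ≠ 0 → g s⁻¹ = (f s)⁻¹) :
    ∃ σ : F ≃+* F, ∀ t, f t = σ t ∧ g t = σ t := by
  have f0 : f 0 = 0 := by simpa using hf 0 0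
  have g0 : g 0 = 0 := by simpa using hg 0 0
  have fne : ∀ {x}, x ≠ 0 → f x ≠ 0 := fun hx h => hx (hinj (h.trans f0.symm))
  have fneg : ∀ x, f (-x) = -f x := fun x => by
    have := hf x (-x); rw [add_neg_cancel, f0] at this; exact eq_neg_of_add_eq_zero_right this.symm
  have fsub : ∀ x y, f (x - y) = f x - f y := fun x y => by rw [sub_eq_add_neg, hf, fneg, sub_eq_add_neg]
  have gval : ∀ {b}, b ≠ 0 → g b = (f b⁻¹)⁻¹ := fun {b} hb => by
    have := hfg b⁻¹ (inv_ne_zero hb); rwa [inv_inv] at this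
  have key : ∀ a b, a ≠ 0 → b ≠ 0 → a * b ≠ 1 → f (a * a * b) = f a * f a * g b := by
    intro a b ha hb hab
    have hy : b⁻¹ - a ≠ 0 := sub_ne_zero.2 fun e => hab (by rw [← e, inv_mul_cancel₀ hb])
    have hxy : a⁻¹ + (b⁻¹ - a)⁻¹ ≠ 0 := by
      intro e
      have e1 : (b⁻¹ - a)⁻¹ = (-a)⁻¹ := by rw [inv_neg]; exact eq_neg_of_add_eq_zero_right e
      have e2 : b⁻¹ = 0 := by linear_combination inv_inj.1 e1
      exact inv_ne_zero hb e2
    have hz : a * a * b = a - (a⁻¹ + (b⁻¹ - a)⁻¹)⁻¹ := by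
      have h2 : (1 - a * b) ≠ 0 := sub_ne_zero.2 (Ne.symm hab)
      have h3 : a⁻¹ + (b⁻¹ - a)⁻¹ = (a * (1 - a * b))⁻¹ := by
        have h4 : b⁻¹ - a = (1 - a * b) / b := by field_simp
        rw [h4, inv_div]
        field_simp
        ring
      rw [h3, inv_inv]; ring
    have fy : f (b⁻¹ - a) = (g b)⁻¹ - f a := by rw [fsub, gval hb, inv_inv]
    have hA := fne ha
    have hB : g b ≠ 0 := by rw [gval hb]; exact inv_ne_zero (fne (inv_ne_zero hb))
    have hY : (g b)⁻¹ - f a ≠ 0 := fy ▸ fne hy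
    rw [hz, fsub]
    have hW : f (a⁻¹ + (b⁻¹ - a)⁻¹)⁻¹ = ((f a)⁻¹ + ((g b)⁻¹ - f a)⁻¹)⁻¹ := by
      have := gval hxy
      rw [hg, hfg a ha, hfg _ hy, fy] at this
      rw [this, inv_inv]
    rw [hW]
    have hAB : 1 - f a * g b ≠ 0 := by
      intro e
      exact hY (by rw [sub_eq_zero, inv_eq_of_mul_eq_one_left]; linear_combination -e)
    have h3 : (f a)⁻¹ + ((g b)⁻¹ - f a)⁻¹ = (f a * (1 - f a * g b))⁻¹ := by
      have h4 : (g b)⁻¹ - f a = (1 - f a * g b) / g b := by field_simp
      rw [h4, inv_div]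
      field_simp
      ring
    rw [h3, inv_inv]; ring
  have g1 : g 1 = 1 := by have := hfg 1 one_ne_zero; simpa [h1] using this
  have hgf : ∀ b, g b = f b := fun b => by
    by_cases hb : b = 0
    · rw [hb, f0, g0]
    by_cases hb1 : b = 1
    · rw [hb1, g1, h1]
    · have := key 1 b one_ne_zero hb (by simpa using hb1)
      simpa [h1] using this.symm
  have sq : ∀ a b, f (a * a * b) = f a * f a * f b := fun a b => by
    by_cases ha : a = 0
    · simp [ha, f0]
    by_cases hb : b = 0
    · simp [hb, f0]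
    by_cases hab : a * b = 1
    · have e : b = a⁻¹ := eq_inv_of_mul_eq_one_right hab
      rw [mul_assoc, hab, mul_one, e, ← hgf a⁻¹, hfg a ha, mul_assoc, mul_inv_cancel₀ (fne ha), mul_one]
    · rw [key a b ha hb hab, hgf]
  have hmul : ∀ a b, f (a * b) = f a * f b := by
    intro a b
    by_cases h2 : (2 : F) = 0
    · have : ringChar F = 2 := by
        haveI : Fact (Nat.Prime (ringChar F)) := ⟨CharP.char_is_prime F _⟩
        have hd : ringChar F ∣ 2 := (ringChar.spec F 2).1 (by exact_mod_cast h2)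
        exact (Nat.prime_dvd_prime_iff_eq (Fact.out : (ringChar F).Prime) Nat.prime_two).1 hd
      obtain ⟨c, rfl⟩ := FiniteField.isSquare_of_char_two this a
      rw [sq c b]
      have := sq c 1
      rw [mul_one, h1, mul_one] at this
      rw [this]
    · have e1 : ∀ x, f (x * x) = f x * f x := fun x => by simpa [h1] using sq x 1
      have hh : f (a * b) + f (a * b) = f a * f b + f a * f b := by
        have := e1 (a + b)
        rw [show (a + b) * (a + b) = a * a + (a * b + a * b) + b * b by ring, hf, hf, hf, e1, e1, hf] at this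
        linear_combination this
      exact mul_left_cancel₀ h2 (by linear_combination hh)
  refine ⟨RingEquiv.ofBijective ({ toFun := f, map_zero' := f0, map_one' := h1, map_add' := hf, map_mul' := hmul } :
    F →+* F) (Finite.injective_iff_bijective.1 hinj), fun t => ⟨rfl, hgf t⟩⟩

end CfsgLib.Chev.Aut
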