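import Cfsg.Agent.Lib.Chev.Aut.Roots

/-! Diagonal and field automorphisms as homomorphisms; automorphisms are determined by the fundamental root
elements and their negatives. -/
set_option autoImplicit false
set_option maxRecDepth 100000
open Cfsg.Lie
open scoped Matrix MatrixGroups

namespace CfsgLib.Chev.Aut

open CfsgLib.Chev CfsgLib.Chev.Checks CfsgLib.Chev.Basic

variable {D : ChevalleyDatum} {F : Type*} [Field F]

theorem gen_simple (hD : D ∈ dataList) : Subgroup.closure {g : ↥(D.group F) | ∃ (i : Fin D.rank) (t : F),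
    g = xe hD (D.simple i) t ∨ g = xe hD (ns D i) t} = ⊤ := by
  set S := Subgroup.closure {g : ↥(D.group F) | ∃ (i : Fin D.rank) (t : F),
    g = xe hD (D.simple i) t ∨ g = xe hD (ns D i) t}
  have hs : ∀ (i : Fin D.rank) (t : F), xe hD (D.simple i) t ∈ S := fun i t =>
    Subgroup.subset_closure ⟨i, t, Or.inl rfl⟩
  have hn : ∀ (i : Fin D.rank) (t : F), xe hD (ns D i) t ∈ S := fun i t =>
    Subgroup.subset_closure ⟨i, t, Or.inr rfl⟩
  have hni : ∀ i, i < D.rank → niG hD F i ∈ S := fun i hi => by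
    have e : niG hD F i = xe hD (D.simple i) (1 : F) * xe hD (ns D i) (-(1 : F)⁻¹) * xe hD (D.simple i) (1 : F) :=
      Subtype.ext rfl
    rw [e]
    exact mul_mem (mul_mem (hs ⟨i, hi⟩ 1) (hn ⟨i, hi⟩ _)) (hs ⟨i, hi⟩ 1)
  have all : ∀ r, r < D.nroots → ∀ t : F, xe hD r t ∈ S := fun r hr => by
    refine Rel.root_induction hD (P := fun r => ∀ t : F, xe hD r t ∈ S) (fun a ha t => hs ⟨a, ha⟩ t)
      (fun i r hi hr ih t => ?_) hr
    have hw := Rel.reflectRoot_lt hD hi hr
    set η := (Rel.eta hD i (D.reflectRoot i r) : F)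
    have e : niG hD F i * xe hD (D.reflectRoot i r) (η * t) * (niG hD F i)⁻¹ = xe hD r t := Subtype.ext (by
      simp only [Subgroup.coe_mul, Subgroup.coe_inv, xe_val, ni_conj hD hi hw, Rel.reflect_invol hD hi hr]
      rw [← mul_assoc, Rel.etaF_sq hD, one_mul])
    rw [← e]
    exact mul_mem (mul_mem (hni i hi) (ih _)) (inv_mem (hni i hi))
  refine eq_top_iff.2 fun g _ => ?_
  have hle : D.group F ≤ S.map (D.group F).subtype := by
    refine (Subgroup.closure_le _).2 ?_
    rintro x ⟨r, t, hx⟩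
    exact ⟨xe hD r t, all r r.2 t, Units.ext ((xGL_val hD r t).trans ((Checks.x_of_lt r.2 t).trans hx.symm))⟩
  obtain ⟨y, hy, e⟩ := hle g.2
  exact (Subtype.ext e : y = g) ▸ hy

theorem aut_ext (hD : D ∈ dataList) {φ ψ : MulAut ↥(D.group F)}
    (h : ∀ (i : Fin D.rank) (t : F), φ (xe hD (D.simple i) t) = ψ (xe hD (D.simple i) t) ∧
      φ (xe hD (ns D i) t) = ψ (xe hD (ns D i) t)) : φ = ψ := by
  have := MonoidHom.eq_of_eqOn_dense (gen_simple (F := F) hD) (f := φ.toMonoidHom) (g := ψ.toMonoidHom) (by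
    rintro g ⟨i, t, rfl | rfl⟩
    exacts [(h i t).1, (h i t).2])
  exact MulEquiv.ext fun g => DFunLike.congr_fun this g

/-- the character with given values on the fundamental roots -/
theorem isRootCharacter_ext (hD : D ∈ dataList) (c : Fin D.rank → Fˣ) : D.IsRootCharacter (RootChar.ext hD c) := by
  refine ⟨fun r hr => ?_, fun r s k hr hs hk => ?_⟩
  · simp only [RootChar.ext, ← Finset.prod_inv_distrib]
    exact Finset.prod_congr rfl fun j _ => by rw [Weight.coef_neg hD j.2 hr, zpow_neg]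
  · simp only [RootChar.ext, ← Finset.prod_mul_distrib]
    refine Finset.prod_congr rfl fun j _ => ?_
    rw [Weight.coef_chain hD j.2 hr hs le_rfl hk, ← zpow_add]
    congr 1
    push_cast
    ring

theorem ext_simple (hD : D ∈ dataList) (c : Fin D.rank → Fˣ) (i : Fin D.rank) :
    RootChar.ext hD c (D.simple i) = c i := by
  rw [RootChar.ext, Finset.prod_eq_single i]
  · rw [Weight.coef_simple hD i.2 i.2, if_pos rfl, zpow_one]
  · intro j _ hne
    rw [Weight.coef_simple hD i.2 j.2, if_neg (fun e => hne (Fin.ext e.symm)), zpow_zero]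
  · exact fun h => absurd (Finset.mem_univ _) h

theorem ext_ns (hD : D ∈ dataList) (c : Fin D.rank → Fˣ) (i : Fin D.rank) :
    RootChar.ext hD c (ns D i) = (c i)⁻¹ := by
  rw [(isRootCharacter_ext hD c).1 _ (Rel.simple_lt hD i.2), ext_simple]

theorem charDiag_mul_inv (χ : ℕ → Fˣ) :
    D.charDiag F χ * D.charDiag F (fun r => (χ r)⁻¹) = 1 ∧
      D.charDiag F (fun r => (χ r)⁻¹) * D.charDiag F χ = 1 := by
  unfold ChevalleyDatum.charDiag
  constructor <;>
    (rw [Matrix.diagonal_mul_diagonal, ← Matrix.diagonal_one]; congr 1; funext k; rcases k with k | k <;> simp)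

/-- the diagonal matrix of a character, as a unit -/
noncomputable def cdGL (D : ChevalleyDatum) (χ : ℕ → Fˣ) : GL D.Idx F :=
  ⟨D.charDiag F χ, D.charDiag F (fun r => (χ r)⁻¹), (charDiag_mul_inv χ).1, (charDiag_mul_inv χ).2⟩

theorem cdGL_conj (hD : D ∈ dataList) {χ : ℕ → Fˣ} (hχ : D.IsRootCharacter χ) {r : ℕ} (hr : r < D.nroots) (t : F) :
    cdGL D χ * xGL hD F r t * (cdGL D χ)⁻¹ = xGL hD F r ((χ r : F) * t) := by
  refine Units.ext ?_
  rw [Units.val_mul, Units.val_mul, xGL_val, xGL_val]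
  exact RootChar.char_conj hD hχ hr t

theorem cdGL_map (hD : D ∈ dataList) {χ : ℕ → Fˣ} (hχ : D.IsRootCharacter χ) :
    (D.group F).map (MulAut.conj (cdGL D χ)).toMonoidHom = D.group F := by
  refine le_antisymm ?_ ((Subgroup.closure_le _).2 ?_)
  · rw [ChevalleyDatum.group, MonoidHom.map_closure]
    refine (Subgroup.closure_le _).2 ?_
    rintro _ ⟨g, ⟨r, t, hg⟩, rfl⟩
    obtain rfl : g = xGL hD F r t :=
      Units.ext (hg.trans ((xGL_val hD r t).trans (Checks.x_of_lt r.2 t)).symm)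
    show cdGL D χ * xGL hD F r t * (cdGL D χ)⁻¹ ∈ D.group F
    rw [cdGL_conj hD hχ r.2]; exact xGL_mem_group hD _ _
  · rintro g ⟨r, t, hg⟩
    obtain rfl : g = xGL hD F r t :=
      Units.ext (hg.trans ((xGL_val hD r t).trans (Checks.x_of_lt r.2 t)).symm)
    refine ⟨xGL hD F r (((χ r)⁻¹ : Fˣ) * t), xGL_mem_group hD _ _, ?_⟩
    show cdGL D χ * _ * (cdGL D χ)⁻¹ = _
    rw [cdGL_conj hD hχ r.2, ← mul_assoc, ← Units.val_mul, mul_inv_cancel, Units.val_one, one_mul]

/-- the diagonal automorphism with given values on the fundamental roots -/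
noncomputable def diagAut (hD : D ∈ dataList) (c : Fin D.rank → Fˣ) : MulAut ↥(D.group F) :=
  ((MulAut.conj (cdGL D (RootChar.ext hD c))).subgroupMap (D.group F)).trans
    (MulEquiv.subgroupCongr (cdGL_map hD (isRootCharacter_ext hD c)))

theorem diagAut_isDiag (hD : D ∈ dataList) (c : Fin D.rank → Fˣ) : D.IsDiagonalAut (diagAut hD c) :=
  ⟨_, isRootCharacter_ext hD c, fun _ => rfl⟩

theorem diagAut_xe (hD : D ∈ dataList) (c : Fin D.rank → Fˣ) {r : ℕ} (hr : r < D.nroots) (t : F) :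
    diagAut hD c (xe hD r t) = xe hD r ((RootChar.ext hD c r : F) * t) :=
  Subtype.ext (cdGL_conj hD (isRootCharacter_ext hD c) hr t)

theorem diagAut_simple (hD : D ∈ dataList) (c : Fin D.rank → Fˣ) (i : Fin D.rank) (t : F) :
    diagAut hD c (xe hD (D.simple i) t) = xe hD (D.simple i) ((c i : F) * t) ∧
      diagAut hD c (xe hD (ns D i) t) = xe hD (ns D i) (((c i)⁻¹ : Fˣ) * t) := by
  rw [diagAut_xe hD c (Rel.simple_lt hD i.2), diagAut_xe hD c (Checks.neg_lt hD (Rel.simple_lt hD i.2)), ext_simple,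
    ext_ns]
  exact ⟨rfl, rfl⟩

/-- diagonal automorphisms as a homomorphism -/
noncomputable def diagHom (hD : D ∈ dataList) (F : Type*) [Field F] : (Fin D.rank → Fˣ) →* MulAut ↥(D.group F) where
  toFun := diagAut hD
  map_one' := aut_ext hD fun i t => by
    obtain ⟨a, b⟩ := diagAut_simple (F := F) hD 1 i t
    simp [a, b]
  map_mul' c c' := aut_ext hD fun i t => by
    obtain ⟨a, b⟩ := diagAut_simple hD (c * c') i t
    obtain ⟨a', b'⟩ := diagAut_simple hD c' i t
    rw [MulAut.mul_apply, MulAut.mul_apply, a, b, a', b', (diagAut_simple hD c i _).1, (diagAut_simple hD c i _).2]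
    simp [mul_comm, mul_left_comm]

theorem diagHom_simple (hD : D ∈ dataList) (c : Fin D.rank → Fˣ) (i : Fin D.rank) (t : F) :
    diagHom hD F c (xe hD (D.simple i) t) = xe hD (D.simple i) ((c i : F) * t) :=
  (diagAut_simple hD c i t).1

theorem diagHom_ns (hD : D ∈ dataList) (c : Fin D.rank → Fˣ) (i : Fin D.rank) (t : F) :
    diagHom hD F c (xe hD (ns D i) t) = xe hD (ns D i) (((c i)⁻¹ : Fˣ) * t) :=
  (diagAut_simple hD c i t).2

theorem diagHom_injective (hD : D ∈ dataList) : Function.Injective (diagHom hD F) := fun c c' h => by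
  funext i
  have e := DFunLike.congr_fun h (xe hD (D.simple i) 1)
  rw [diagHom_simple, diagHom_simple] at e
  have := xe_injective hD (Rel.simple_lt hD i.2) e
  exact Units.ext (by simpa using this)

theorem isDiag_iff (hD : D ∈ dataList) (φ : MulAut ↥(D.group F)) :
    D.IsDiagonalAut φ ↔ φ ∈ (diagHom hD F).range := by
  constructor
  · rintro ⟨χ, hχ, h⟩
    have hx : ∀ r < D.nroots, ∀ t : F, φ (xe hD r t) = xe hD r ((χ r : F) * t) := fun r hr t =>
      eq_xe hD (by rw [h, xe_mat]; exact RootChar.char_conj hD hχ hr t)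
    refine ⟨fun j => χ (D.simple j), aut_ext hD fun i t => ?_⟩
    rw [diagHom_simple, diagHom_ns, hx _ (Rel.simple_lt hD i.2), hx _ (Checks.neg_lt hD (Rel.simple_lt hD i.2)),
      hχ.1 _ (Rel.simple_lt hD i.2)]
    exact ⟨rfl, rfl⟩
  · rintro ⟨c, rfl⟩
    exact diagAut_isDiag hD c

/-- a field automorphism -/
noncomputable def fieldAut (hD : D ∈ dataList) (σ : F ≃+* F) : MulAut ↥(D.group F) :=
  (Opposite.exists_field_aut hD σ).choose

theorem fieldAut_xe (hD : D ∈ dataList) (σ : F ≃+* F) {r : ℕ} (hr : r < D.nroots) (t : F) :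
    fieldAut hD σ (xe hD r t) = xe hD r (σ t) :=
  eq_xe hD ((Opposite.exists_field_aut hD σ).choose_spec (xe hD r t) r t hr (xe_mat hD r t))

/-- field automorphisms as a homomorphism -/
noncomputable def fieldHom (hD : D ∈ dataList) (F : Type*) [Field F] : (F ≃+* F) →* MulAut ↥(D.group F) where
  toFun := fieldAut hD
  map_one' := aut_ext hD fun i t => by
    rw [fieldAut_xe hD _ (Rel.simple_lt hD i.2), fieldAut_xe hD _ (Checks.neg_lt hD (Rel.simple_lt hD i.2))]
    simp
  map_mul' σ τ := aut_ext hD fun i t => by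
    simp only [MulAut.mul_apply, fieldAut_xe hD _ (Rel.simple_lt hD i.2),
      fieldAut_xe hD _ (Checks.neg_lt hD (Rel.simple_lt hD i.2))]
    exact ⟨rfl, rfl⟩

theorem fieldHom_simple (hD : D ∈ dataList) (σ : F ≃+* F) (i : Fin D.rank) (t : F) :
    fieldHom hD F σ (xe hD (D.simple i) t) = xe hD (D.simple i) (σ t) :=
  fieldAut_xe hD σ (Rel.simple_lt hD i.2) t

theorem fieldHom_ns (hD : D ∈ dataList) (σ : F ≃+* F) (i : Fin D.rank) (t : F) :
    fieldHom hD F σ (xe hD (ns D i) t) = xe hD (ns D i) (σ t) :=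
  fieldAut_xe hD σ (Checks.neg_lt hD (Rel.simple_lt hD i.2)) t

theorem fieldHom_isField (hD : D ∈ dataList) (σ : F ≃+* F) : D.IsFieldAut (fieldHom hD F σ) :=
  ⟨σ, (Opposite.exists_field_aut hD σ).choose_spec⟩

theorem rank_pos (hD : D ∈ dataList) : 0 < D.rank := by
  simp only [dataList, List.mem_cons, List.not_mem_nil, or_false] at hD
  rcases hD with rfl | rfl | rfl | rfl | rfl | rfl | rfl <;> decide +kernel

theorem fieldHom_injective (hD : D ∈ dataList) : Function.Injective (fieldHom hD F) := fun σ τ h => by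
  refine RingEquiv.ext fun t => ?_
  have e := DFunLike.congr_fun h (xe hD (D.simple 0) t)
  rw [fieldHom_simple hD σ ⟨0, rank_pos hD⟩, fieldHom_simple hD τ ⟨0, rank_pos hD⟩] at e
  exact xe_injective hD (Rel.simple_lt hD (rank_pos hD)) e

theorem isField_iff (hD : D ∈ dataList) (φ : MulAut ↥(D.group F)) :
    D.IsFieldAut φ ↔ φ ∈ (fieldHom hD F).range := by
  constructor
  · rintro ⟨σ, h⟩
    refine ⟨σ, aut_ext hD fun i t => ?_⟩
    rw [fieldHom_simple, fieldHom_ns]
    exact ⟨(eq_xe hD (h _ _ t (Rel.simple_lt hD i.2) (xe_mat hD _ t))).symm,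
      (eq_xe hD (h _ _ t (Checks.neg_lt hD (Rel.simple_lt hD i.2)) (xe_mat hD _ t))).symm⟩
  · rintro ⟨σ, rfl⟩
    exact fieldHom_isField hD σ

theorem isGraph_iff (hD : D ∈ dataList) (φ : MulAut ↥(D.group F)) :
    D.IsGraphAut φ ↔ ∃ π : Equiv.Perm (Fin D.rank), D.IsDiagramSymmetry π ∧ ∀ (i : Fin D.rank) (t : F),
      φ (xe hD (D.simple i) t) = xe hD (D.simple (π i)) (t ^ D.graphExp (ringChar F) i (π i)) ∧
      φ (xe hD (ns D i) t) = xe hD (ns D (π i)) (t ^ D.graphExp (ringChar F) i (π i)) := by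
  constructor
  · rintro ⟨π, hπ, h⟩
    exact ⟨π, hπ, fun i t => ⟨eq_xe hD ((h _ i t).1 (xe_mat hD _ t)), eq_xe hD ((h _ i t).2 (xe_mat hD _ t))⟩⟩
  · rintro ⟨π, hπ, h⟩
    refine ⟨π, hπ, fun g i t => ⟨fun hg => ?_, fun hg => ?_⟩⟩
    · rw [eq_xe hD hg, (h i t).1, xe_mat]
    · rw [eq_xe hD hg, (h i t).2, xe_mat]

theorem field_graph_comm (hD : D ∈ dataList) {f g : MulAut ↥(D.group F)} (hf : D.IsFieldAut f)
    (hg : D.IsGraphAut g) : f * g = g * f := by
  obtain ⟨σ, rfl⟩ := (isField_iff hD f).1 hf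
  obtain ⟨π, -, h⟩ := (isGraph_iff hD g).1 hg
  refine aut_ext hD fun i t => ?_
  rw [MulAut.mul_apply, MulAut.mul_apply, MulAut.mul_apply, MulAut.mul_apply, (h i t).1, (h i t).2, fieldHom_simple,
    fieldHom_ns, fieldHom_simple, fieldHom_ns, (h i _).1, (h i _).2, map_pow]
  exact ⟨rfl, rfl⟩

end CfsgLib.Chev.Aut
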