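import Cfsg.Agent.Lib.Chev.Aut.RankOne
import Cfsg.Agent.Lib.Chev.Group.Simple

/-! The decomposition inner · diagonal · graph · field. -/
set_option autoImplicit false
set_option maxRecDepth 100000
open Cfsg.Lie
open scoped Matrix MatrixGroups

namespace CfsgLib.Chev.Aut

open CfsgLib.Chev CfsgLib.Chev.Checks CfsgLib.Chev.Basic

variable {D : ChevalleyDatum} {F : Type*} [Field F]

def lg (D : ChevalleyDatum) (i : ℕ) : Bool := D.isLong (D.simple i)

/-- `l` preserves root lengths -/
def keepOK (D : ChevalleyDatum) (l : List ℕ) : Bool :=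
  (List.range D.rank).all fun i => !(lg D (l.getD i 0) && !lg D i) && (List.range D.rank).all fun j =>
    !Simple.adj D i j ||
      (D.cartan i (D.simple j) == -1 && D.cartan (l.getD i 0) (D.simple (l.getD j 0)) == -1) ||
      (D.cartan j (D.simple i) == -1 && D.cartan (l.getD j 0) (D.simple (l.getD i 0)) == -1)

/-- `l` exchanges root lengths, with ratio `m` -/
def swapOK (D : ChevalleyDatum) (l : List ℕ) (m : ℕ) : Bool :=
  ((List.range D.rank).any fun i => lg D i) && ((List.range D.rank).any fun i => !lg D i) &&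
  (List.range D.rank).all fun i => (lg D (l.getD i 0) == !lg D i) && (List.range D.rank).all fun j =>
    !Simple.adj D i j || (if lg D i == lg D j then
        (D.cartan i (D.simple j) == -1 && D.cartan (l.getD i 0) (D.simple (l.getD j 0)) == -1)
      else if lg D i then
        (D.cartan i (D.simple j) == -1 && D.cartan (l.getD i 0) (D.simple (l.getD j 0)) == -(m : ℤ))
      else (D.cartan j (D.simple i) == -1 && D.cartan (l.getD j 0) (D.simple (l.getD i 0)) == -(m : ℤ)))

/-- the length ratio of a datum -/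
def ratio (D : ChevalleyDatum) : ℕ := if D.rank == 2 && D.nroots == 12 then 3 else 2

theorem classify : ∀ D ∈ dataList, ∀ l ∈ symList D, keepOK D l = true ∨ swapOK D l (ratio D) = true := by
  intro D hD
  simp only [dataList, List.mem_cons, List.not_mem_nil, or_false] at hD
  rcases hD with rfl | rfl | rfl | rfl | rfl | rfl | rfl <;> decide +kernel

theorem imgs_getD (π : Equiv.Perm (Fin D.rank)) (i : Fin D.rank) : (imgs π).getD i.val 0 = (π i).val := by
  rw [List.getD_eq_getElem _ _ (by simp [imgs])]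
  simp [imgs]

theorem sym_mem {π : Equiv.Perm (Fin D.rank)} (hπ : D.IsDiagramSymmetry π) : imgs π ∈ symList D :=
  mem_symList π fun i j hij => by rw [hπ i j hij]

theorem class_of_sym (hD : D ∈ dataList) {π : Equiv.Perm (Fin D.rank)} (hπ : D.IsDiagramSymmetry π) :
    keepOK D (imgs π) = true ∨ swapOK D (imgs π) (ratio D) = true := classify D hD _ (sym_mem hπ)

theorem adj_propagate (hD : D ∈ dataList) (P : Fin D.rank → Prop) (L : Fin D.rank) (hL : P L)
    (h : ∀ i j : Fin D.rank, Simple.adj D i j = true → P i → P j) : ∀ i, P i := by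
  classical
  intro i
  by_contra hi
  set J := (List.range D.rank).filter fun k => decide (∃ h : k < D.rank, P ⟨k, h⟩)
  have hJ : J.Sublist (List.range D.rank) := List.filter_sublist
  have h0 : J ≠ [] := List.ne_nil_of_mem (a := L.val) (List.mem_filter.2 ⟨List.mem_range.2 L.2, by simp [hL]⟩)
  have h1 : J ≠ List.range D.rank := fun e => by
    have : i.val ∈ J := e ▸ List.mem_range.2 i.2
    simp [J] at this
    exact hi this
  obtain ⟨a, ha, b, hb, hbJ, hadj⟩ := Simple.connected hD hJ h0 h1
  simp [J] at ha hbJ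
  obtain ⟨ha', hPa⟩ := ha
  exact hbJ hb (h ⟨a, ha'⟩ ⟨b, hb⟩ hadj hPa)

theorem eq_pow_of_link {x y : F} {m : ℕ} (h : x ^ (-1 : ℤ) = y ^ (-(m : ℤ))) : x = y ^ m := by
  rw [zpow_neg_one, zpow_neg, zpow_natCast] at h
  exact inv_inj.1 h

theorem sigma_keep [Finite F] (hD : D ∈ dataList) {ψ : MulAut ↥(D.group F)} {π : Equiv.Perm (Fin D.rank)}
    {σ : Fin D.rank → F ≃+* F} (h : ∀ (i : Fin D.rank) (t : F),
      ψ (xe hD (D.simple i) t) = xe hD (D.simple (π i)) (σ i t) ∧
      ψ (xe hD (ns D i) t) = xe hD (ns D (π i)) (σ i t))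
    (hk : keepOK D (imgs π) = true) :
    (∀ i : Fin D.rank, D.graphExp (ringChar F) i (π i) = 1) ∧
      ∀ i j : Fin D.rank, σ i = σ j := by
  simp only [keepOK, List.all_eq_true, List.mem_range, Bool.and_eq_true, Bool.or_eq_true, Bool.not_eq_true',
    beq_iff_eq] at hk
  refine ⟨fun i => ?_, ?_⟩
  · have := (hk i i.2).1
    rw [imgs_getD] at this
    simp only [ChevalleyDatum.graphExp, lg] at this ⊢
    rw [if_neg (by rw [this]; simp)]
  · have L : Fin D.rank := ⟨0, rank_pos hD⟩
    have all := adj_propagate hD (fun i => σ i = σ L) L rfl fun i j hadj hi => by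
      rw [← hi]
      refine RingEquiv.ext fun c => ?_
      by_cases hc : c = 0
      · simp [hc]
      have h2 := (hk i i.2).2 j j.2
      rw [imgs_getD, imgs_getD] at h2
      rcases h2 with (h2 | ⟨a, b⟩) | ⟨a, b⟩
      · rw [hadj] at h2; exact absurd h2 (by simp)
      · have l := sigma_link hD h i j hc
        rw [a, b] at l
        simpa using l
      · have l := sigma_link hD h j i hc
        rw [a, b] at l
        simpa using l.symm
    exact fun i j => (all i).trans (all j).symm

theorem sigma_swap [Finite F] (hD : D ∈ dataList) {ψ : MulAut ↥(D.group F)} {π : Equiv.Perm (Fin D.rank)}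
    {σ : Fin D.rank → F ≃+* F} (h : ∀ (i : Fin D.rank) (t : F),
      ψ (xe hD (D.simple i) t) = xe hD (D.simple (π i)) (σ i t) ∧
      ψ (xe hD (ns D i) t) = xe hD (ns D (π i)) (σ i t))
    {m : ℕ} (hm : m = 2 ∨ m = 3) (hk : swapOK D (imgs π) m = true) :
    (ringChar F = m ∨ (m = 3 ∧ Nat.card F = 2)) ∧
      ∃ τ : F ≃+* F, ∀ (i : Fin D.rank) (t : F), σ i t = τ t ^ D.graphExp (ringChar F) i (π i) := by
  classical
  simp only [swapOK, List.all_eq_true, List.any_eq_true, List.mem_range, Bool.and_eq_true, Bool.not_eq_true',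
    beq_iff_eq, Bool.or_eq_true] at hk
  obtain ⟨⟨⟨l₀, hl₀, hlong⟩, ⟨s₀, hs₀, hshort⟩⟩, hk⟩ := hk
  let L : Fin D.rank := ⟨l₀, hl₀⟩
  let P : Fin D.rank → Prop := fun i => ∀ c : F, c ≠ 0 → σ i c = if lg D i then σ L c else σ L c ^ m
  have hm0 : m ≠ 0 := by rcases hm with rfl | rfl <;> omega
  have hlink : ∀ i j : Fin D.rank, lg D i = true → lg D j = false → Simple.adj D i j = true → ∀ c : F, c ≠ 0 →
      σ j c = σ i c ^ m := by
    intro i j hi hj hadj c hc
    have h2 := (hk i i.2).2 j j.2
    rw [imgs_getD, imgs_getD, hi, hj] at h2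
    rcases h2 with h2 | h2
    · rw [hadj] at h2; exact absurd h2 (by simp)
    · simp at h2
      have l := sigma_link hD h i j hc
      rw [h2.1, h2.2] at l
      exact eq_pow_of_link l
  have hlink' : ∀ i j : Fin D.rank, lg D i = false → lg D j = true → Simple.adj D i j = true → ∀ c : F, c ≠ 0 →
      σ i c = σ j c ^ m := by
    intro i j hi hj hadj c hc
    have h2 := (hk i i.2).2 j j.2
    rw [imgs_getD, imgs_getD, hi, hj] at h2
    rcases h2 with h2 | h2
    · rw [hadj] at h2; exact absurd h2 (by simp)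
    · simp at h2
      have l := sigma_link hD h j i hc
      rw [h2.1, h2.2] at l
      exact eq_pow_of_link l
  have hsame : ∀ i j : Fin D.rank, lg D i = lg D j → Simple.adj D i j = true → ∀ c : F, c ≠ 0 → σ j c = σ i c := by
    intro i j hij hadj c hc
    have h2 := (hk i i.2).2 j j.2
    rw [imgs_getD, imgs_getD, hij] at h2
    rcases h2 with h2 | h2
    · rw [hadj] at h2; exact absurd h2 (by simp)
    · simp at h2
      have l := sigma_link hD h i j hc
      rw [h2.1, h2.2] at l
      simpa using l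
  have all : ∀ i, P i := adj_propagate hD P L (fun c _ => by simp [L, hlong]) fun i j hadj hi c hc => by
    cases hli : lg D i <;> cases hlj : lg D j
    · rw [hsame i j (by rw [hli, hlj]) hadj c hc, hi c hc, hli]
    · -- short to long: the power map is injective
      have e : ∀ c : F, c ≠ 0 → σ i c = σ j c ^ m := hlink' i j hli hlj hadj
      have hbij : Function.Injective fun x : F => x ^ m := by
        refine Finite.injective_iff_surjective.2 fun y => ?_
        by_cases hy : y = 0
        · exact ⟨0, by simp [hy, zero_pow hm0]⟩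
        · exact ⟨σ j ((σ i).symm y), by
            rw [← e _ ((map_ne_zero_iff _ (σ i).symm.injective).2 hy)]; simp⟩
      show _ = if true then σ L c else σ L c ^ m
      have h1 := e c hc
      rw [hi c hc, hli] at h1
      exact (hbij h1.symm).trans rfl
    · rw [hlink i j hli hlj hadj c hc, hi c hc, hli]; simp
    · rw [hsame i j (by rw [hli, hlj]) hadj c hc, hi c hc, hli]
  let s : Fin D.rank := ⟨s₀, hs₀⟩
  have hadd : ∀ x y : F, (x + y) ^ m = x ^ m + y ^ m := by
    have e : ∀ z : F, σ s ((σ L).symm z) = z ^ m := fun z => by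
      by_cases hz : z = 0
      · simp [hz, zero_pow hm0]
      · rw [all s _ ((map_ne_zero_iff _ (σ L).symm.injective).2 hz)]
        simp [s, hshort]
    intro x y
    rw [← e, ← e, ← e, map_add, map_add]
  haveI : Fact (Nat.Prime (ringChar F)) := ⟨CharP.char_is_prime F _⟩
  have hp := (Fact.out : (ringChar F).Prime)
  have hchar : ringChar F = m ∨ (m = 3 ∧ Nat.card F = 2) := by
    rcases hm with rfl | rfl
    · left
      have h2 : ((2 : ℕ) : F) = 0 := by
        have := hadd 1 1
        push_cast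
        linear_combination this
      exact (Nat.prime_dvd_prime_iff_eq hp Nat.prime_two).1 ((ringChar.spec F 2).1 h2)
    · have h6 : ((2 * 3 : ℕ) : F) = 0 := by
        have := hadd 1 1
        push_cast
        linear_combination this
      rcases hp.dvd_mul.1 ((ringChar.spec F _).1 h6) with d | d
      · right
        have h2 : (2 : F) = 0 := by
          have := (ringChar.spec F 2).2 d
          exact_mod_cast this
        refine ⟨rfl, ?_⟩
        rw [Nat.card_eq_two_iff' (0 : F)]
        refine ⟨1, one_ne_zero, fun x hx => ?_⟩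
        have := hadd x 1
        have hx' : x * (x + 1) = 0 := by linear_combination this - (x * x + x) * h2
        rcases mul_eq_zero.1 hx' with e | e
        · exact absurd e hx
        · linear_combination e - h2
      · exact Or.inl ((Nat.prime_dvd_prime_iff_eq hp Nat.prime_three).1 d)
  have hpow : ∀ z : F, z ^ m = z ^ ringChar F := by
    intro z
    rcases hchar with e | ⟨-, e⟩
    · rw [e]
    · rw [Nat.card_eq_two_iff' (0 : F)] at e
      obtain ⟨u, -, hu⟩ := e
      by_cases hz : z = 0
      · simp [hz, zero_pow hm0, zero_pow hp.ne_zero]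
      · rw [(hu z hz).trans (hu 1 one_ne_zero).symm]; simp
  refine ⟨hchar, σ L, fun i t => ?_⟩
  have hl := (hk i i.2).1
  rw [imgs_getD] at hl
  by_cases ht : t = 0
  · subst ht
    have : D.graphExp (ringChar F) i (π i) ≠ 0 := by
      unfold ChevalleyDatum.graphExp; split_ifs
      · exact hp.ne_zero
      · exact one_ne_zero
    simp [zero_pow this]
  · rw [all i t ht]
    simp only [ChevalleyDatum.graphExp, lg] at hl ⊢
    rcases Bool.eq_false_or_eq_true (D.isLong (D.simple i)) with hli | hli <;> simp [hli] at hl ⊢ <;> simp [hl, hpow]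

theorem ratio_cases (D : ChevalleyDatum) : ratio D = 2 ∨ ratio D = 3 := by
  unfold ratio; split_ifs <;> simp

theorem normal_form [Finite F] (hD : D ∈ dataList) {φ : MulAut ↥(D.group F)} {π : Equiv.Perm (Fin D.rank)}
    (h : PermX hD φ π) :
    ∃ (c : Fin D.rank → Fˣ) (τ : F ≃+* F) (g : MulAut ↥(D.group F)), D.IsGraphAut g ∧
      φ = diagHom hD F c * g * fieldHom hD F τ ∧
      (∀ (i : Fin D.rank) (t : F),
        g (xe hD (D.simple i) t) = xe hD (D.simple (π i)) (t ^ D.graphExp (ringChar F) i (π i)) ∧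
        g (xe hD (ns D i) t) = xe hD (ns D (π i)) (t ^ D.graphExp (ringChar F) i (π i))) ∧
      (keepOK D (imgs π) = true ∨ ringChar F = ratio D ∨ (ratio D = 3 ∧ Nat.card F = 2)) := by
  obtain ⟨c, σ, hσ⟩ := exists_sigmas hD h
  have hπ := h.symmetry hD
  obtain ⟨τ, hτ, hcase⟩ : ∃ τ : F ≃+* F,
      (∀ (i : Fin D.rank) (t : F), σ i t = τ t ^ D.graphExp (ringChar F) i (π i)) ∧
      (keepOK D (imgs π) = true ∨ ringChar F = ratio D ∨ (ratio D = 3 ∧ Nat.card F = 2)) := by
    rcases class_of_sym hD hπ with hk | hk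
    · obtain ⟨he, hs⟩ := sigma_keep hD hσ hk
      exact ⟨σ ⟨0, rank_pos hD⟩, fun i t => by rw [he i, pow_one, hs i], Or.inl hk⟩
    · obtain ⟨hc, τ, hτ⟩ := sigma_swap hD hσ (ratio_cases D) hk
      exact ⟨τ, hτ, Or.inr hc⟩
  set g := diagHom hD F c * φ * (fieldHom hD F τ)⁻¹
  have hg : ∀ (i : Fin D.rank) (t : F),
      g (xe hD (D.simple i) t) = xe hD (D.simple (π i)) (t ^ D.graphExp (ringChar F) i (π i)) ∧
      g (xe hD (ns D i) t) = xe hD (ns D (π i)) (t ^ D.graphExp (ringChar F) i (π i)) := by
    intro i t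
    simp only [g, ← map_inv, MulAut.mul_apply, fieldHom_simple, fieldHom_ns]
    have := hσ i ((τ⁻¹ : F ≃+* F) t)
    simp only [MulAut.mul_apply, hτ] at this
    have e : τ ((τ⁻¹ : F ≃+* F) t) = t := τ.apply_symm_apply t
    rw [e] at this
    exact this
  refine ⟨c⁻¹, τ, g, (isGraph_iff hD g).2 ⟨π, hπ, hg⟩, ?_, hg, hcase⟩
  simp only [g, map_inv]
  group

theorem decomposition [Finite F] (hD : D ∈ dataList) (θ : MulAut ↥(D.group F)) :
    ∃ (x : ↥(D.group F)) (c : Fin D.rank → Fˣ) (g : MulAut ↥(D.group F)) (τ : F ≃+* F),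
      D.IsGraphAut g ∧ θ = MulAut.conj x * (diagHom hD F c * g * fieldHom hD F τ) := by
  obtain ⟨x, φ, rfl, hU, hV⟩ := exists_adjust hD θ
  obtain ⟨π, hπ, -⟩ := exists_perm hD φ hU hV
  obtain ⟨c, τ, g, hg, rfl, -⟩ := normal_form hD hπ
  exact ⟨x, c, g, τ, hg, rfl⟩

end CfsgLib.Chev.Aut
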