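import Cfsg.Agent.Lib.Chev.Aut.Normal
import Cfsg.Agent.Lib.Chev.Abstract.Present
import Cfsg.Agent.Lib.Chev.Group.Torus
import Cfsg.Prelude.Def_KGroupFacts

/-! The permutation of the nodes as a homomorphism on automorphisms; the outer automorphism group. -/
set_option autoImplicit false
set_option maxRecDepth 100000
open Cfsg.Lie
open scoped Matrix MatrixGroups

namespace CfsgLib.Chev.Aut

open CfsgLib.Chev CfsgLib.Chev.Checks CfsgLib.Chev.Basic

variable {D : ChevalleyDatum} {F : Type*} [Field F]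

/-- fixes `U`, `V` and permutes the fundamental root subgroups as `π` does -/
structure Std (hD : D ∈ dataList) (φ : MulAut ↥(D.group F)) (π : Equiv.Perm (Fin D.rank)) : Prop where
  hU : (UG D F).map φ.toMonoidHom = UG D F
  hV : (VG D F).map φ.toMonoidHom = VG D F
  hX : PermX hD φ π

theorem map_mul_eq (φ ψ : MulAut ↥(D.group F)) (A : Subgroup ↥(D.group F)) :
    A.map (φ * ψ).toMonoidHom = (A.map ψ.toMonoidHom).map φ.toMonoidHom := by
  rw [Subgroup.map_map]; rfl

theorem map_inv_eq {φ : MulAut ↥(D.group F)} {A B : Subgroup ↥(D.group F)} (h : A.map φ.toMonoidHom = B) :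
    B.map (φ⁻¹ : MulAut ↥(D.group F)).toMonoidHom = A := by
  subst h
  rw [← map_mul_eq, inv_mul_cancel]
  exact Subgroup.map_id A

theorem Std.one (hD : D ∈ dataList) : Std hD (1 : MulAut ↥(D.group F)) 1 :=
  ⟨Subgroup.map_id _, Subgroup.map_id _, fun _ => ⟨Subgroup.map_id _, Subgroup.map_id _⟩⟩

theorem Std.mul {hD : D ∈ dataList} {φ ψ : MulAut ↥(D.group F)} {π ρ : Equiv.Perm (Fin D.rank)}
    (h : Std hD φ π) (h' : Std hD ψ ρ) : Std hD (φ * ψ) (π * ρ) :=
  ⟨by rw [map_mul_eq, h'.hU, h.hU], by rw [map_mul_eq, h'.hV, h.hV], fun i =>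
    ⟨by rw [map_mul_eq, (h'.hX i).1, (h.hX _).1]; rfl, by rw [map_mul_eq, (h'.hX i).2, (h.hX _).2]; rfl⟩⟩

theorem Std.inv {hD : D ∈ dataList} {φ : MulAut ↥(D.group F)} {π : Equiv.Perm (Fin D.rank)}
    (h : Std hD φ π) : Std hD φ⁻¹ π⁻¹ := ⟨map_inv_eq h.hU, map_inv_eq h.hV, h.hX.inv hD⟩

theorem std_of_root_maps [Finite F] (hD : D ∈ dataList) (φ : MulAut ↥(D.group F)) (ρ : ℕ → ℕ)
    (π : Equiv.Perm (Fin D.rank))
    (hφ : ∀ r, r < D.nroots → ∀ t : F, ∃ u : F, φ (xe hD r t) = xe hD (ρ r) u)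
    (hpos : ∀ r, D.IsPosRoot r → D.IsPosRoot (ρ r)) (hneg : ∀ r, D.IsNegRoot r → D.IsNegRoot (ρ r))
    (hπ : ∀ i : Fin D.rank, ρ (D.simple i) = D.simple (π i) ∧ ρ (ns D i) = ns D (π i)) : Std hD φ π := by
  have key : ∀ (A : Subgroup ↥(D.group F)) (P : ℕ → Prop), (∀ r, P r → r < D.nroots) →
      (∀ r, P r → ∀ t : F, xe hD (ρ r) t ∈ A) → (A = (RootGen.gen D F P).subgroupOf (D.group F)) →
      A.map φ.toMonoidHom = A := by
    intro A P hlt hmem hA
    refine Subgroup.eq_of_le_of_card_ge ?_ (le_of_eq (Nat.card_congr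
      (Subgroup.equivMapOfInjective _ _ φ.injective).toEquiv))
    rw [Subgroup.map_le_iff_le_comap]
    intro g hg
    rw [hA, Subgroup.mem_subgroupOf] at hg
    have hle : RootGen.gen D F P ≤ (A.comap φ.toMonoidHom).map (D.group F).subtype :=
      RootGen.gen_le hD fun r hr t => ⟨xe hD r t, by
        obtain ⟨u, hu⟩ := hφ r (hlt r hr) t
        show φ (xe hD r t) ∈ A
        rw [hu]; exact hmem r hr u, rfl⟩
    obtain ⟨y, hy, e⟩ := hle hg
    exact (Subtype.ext e : y = g) ▸ hy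
  have hXmap : ∀ r, r < D.nroots → ρ r < D.nroots → (XG hD F r).map φ.toMonoidHom = XG hD F (ρ r) := by
    intro r hr hr'
    refine Subgroup.eq_of_le_of_card_ge ?_ (le_of_eq ?_)
    · rw [Subgroup.map_le_iff_le_comap]
      intro g hg
      obtain ⟨t, rfl⟩ := (mem_XG hD hr).1 hg
      obtain ⟨u, hu⟩ := hφ r hr t
      show φ (xe hD r t) ∈ XG hD F (ρ r)
      rw [hu]; exact xe_mem_XG hD hr' u
    · rw [← Nat.card_congr (Subgroup.equivMapOfInjective _ _ φ.injective).toEquiv]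
      have card : ∀ {s}, s < D.nroots → Nat.card ↥(XG hD F s) = Nat.card F := fun {s} hs =>
        (Nat.card_congr (Equiv.ofBijective (fun t : F => (⟨xe hD s t, xe_mem_XG hD hs t⟩ : ↥(XG hD F s)))
          ⟨fun a b e => xe_injective hD hs (congrArg Subtype.val e), fun g => by
            obtain ⟨t, ht⟩ := (mem_XG hD hs).1 g.2
            exact ⟨t, Subtype.ext ht.symm⟩⟩)).symm
      rw [card hr, card hr']
  refine ⟨key (UG D F) D.IsPosRoot (fun r h => h.1) (fun r h t => xe_mem_UG hD (hpos r h) t) rfl,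
    key (VG D F) D.IsNegRoot (fun r h => h.1) (fun r h t => xe_mem_VG hD (hneg r h) t) rfl, fun i => ?_⟩
  have hp := Rel.simple_lt hD i.2
  have hq := Rel.simple_lt hD (π i).2
  refine ⟨?_, ?_⟩
  · rw [hXmap _ hp ((hπ i).1 ▸ hq), (hπ i).1]
  · rw [hXmap _ (Checks.neg_lt hD hp) ((hπ i).2 ▸ Checks.neg_lt hD hq), (hπ i).2]

theorem std_diag [Finite F] (hD : D ∈ dataList) (c : Fin D.rank → Fˣ) : Std hD (diagHom hD F c) 1 :=
  std_of_root_maps hD _ id 1 (fun _ hr t => ⟨_, diagAut_xe hD c hr t⟩) (fun _ h => h) (fun _ h => h)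
    fun _ => ⟨rfl, rfl⟩

theorem std_field [Finite F] (hD : D ∈ dataList) (σ : F ≃+* F) : Std hD (fieldHom hD F σ) 1 :=
  std_of_root_maps hD _ id 1 (fun _ hr t => ⟨_, fieldAut_xe hD σ hr t⟩) (fun _ h => h) (fun _ h => h)
    fun _ => ⟨rfl, rfl⟩

/-- conjugation by an element of `H` is diagonal -/
theorem conj_H_diag (hD : D ∈ dataList) {z : ↥(D.group F)} (hz : (z : GL D.Idx F) ∈ D.diagonalSubgroup F) :
    ∃ c : Fin D.rank → Fˣ, MulAut.conj z = diagHom hD F c := by
  let S : Subgroup ↥(D.group F) := (diagHom hD F).range.comap (MulAut.conj : ↥(D.group F) →* MulAut ↥(D.group F))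
  suffices h : z ∈ S by obtain ⟨c, hc⟩ := h; exact ⟨c, hc.symm⟩
  have key : D.diagonalSubgroup F ≤ S.map (D.group F).subtype := by
    refine (Subgroup.closure_le _).2 ?_
    rintro g ⟨r, u, hr, hu, hg⟩
    obtain rfl : g = hGL hD F r u := Units.ext (hg.trans (hGL_val hD r u).symm)
    let w : ↥(D.group F) := ⟨hGL hD F r u, diagonal_le_group hD (hGL_mem_diagonal hD hr hu)⟩
    refine ⟨w, ⟨fun i => Units.mk0 u hu ^ D.pairing r (D.simple i), aut_ext hD fun i t => ?_⟩, rfl⟩
    have hp := Rel.simple_lt hD i.2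
    rw [diagHom_simple, diagHom_ns]
    constructor <;> refine Subtype.ext ?_
    · show _ = hGL hD F r u * xGL hD F (D.simple i) t * (hGL hD F r u)⁻¹
      rw [Weight.h_conj_GL hD hr hp hu, xe_val, Units.val_zpow_eq_zpow_val]; rfl
    · show _ = hGL hD F r u * xGL hD F (ns D i) t * (hGL hD F r u)⁻¹
      rw [Weight.h_conj_GL hD hr (Checks.neg_lt hD hp) hu, xe_val, ← zpow_neg, Units.val_zpow_eq_zpow_val]
      congr 3
      exact ((Weight.pairingGrading hD r).neg _ hp).symm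
  obtain ⟨y, hy, e⟩ := key hz
  exact (Subtype.ext e : y = z) ▸ hy

theorem std_conj_mem_H [Finite F] (hD : D ∈ dataList) {z : ↥(D.group F)} {π : Equiv.Perm (Fin D.rank)}
    (h : Std hD (MulAut.conj z) π) : (z : GL D.Idx F) ∈ D.diagonalSubgroup F := by
  obtain ⟨l, hl⟩ := exists_rev hD
  obtain ⟨m1, -⟩ := map_UG (F := F) hD hl
  set n := wG hD F l hl.1
  have hzB : z ∈ BG D F := by
    rw [← normalizer_UG hD]
    exact Subgroup.mem_normalizer_iff_map_conj_eq.2 h.hU
  have hy : n⁻¹ * z * n ∈ BG D F := by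
    rw [← normalizer_UG hD]
    refine Subgroup.mem_normalizer_iff_map_conj_eq.2 ?_
    show (UG D F).map (MulAut.conj (n⁻¹ * z * n)).toMonoidHom = UG D F
    rw [show MulAut.conj (n⁻¹ * z * n) = (MulAut.conj n)⁻¹ * (MulAut.conj z * MulAut.conj n) by
      rw [map_mul, map_mul, map_inv, mul_assoc], map_mul_eq, map_mul_eq, m1, h.hV, map_inv_eq m1]
  obtain ⟨u, hu, k, hk, e⟩ := (BH.mem_borel_iff hD).1 (Subgroup.mem_subgroupOf.1 hy)
  refine (BH.borel_inf_negBorel hD).le ⟨Subgroup.mem_subgroupOf.1 hzB, ?_⟩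
  have ez : (z : GL D.Idx F) = (n : GL D.Idx F) * u * (n : GL D.Idx F)⁻¹ * ((n : GL D.Idx F) * k * (n : GL D.Idx F)⁻¹) := by
    have e' : (n : GL D.Idx F)⁻¹ * (z : GL D.Idx F) * n = u * k := e.symm
    calc (z : GL D.Idx F) = (n : GL D.Idx F) * ((n : GL D.Idx F)⁻¹ * z * n) * (n : GL D.Idx F)⁻¹ := by group
      _ = _ := by rw [e']; group
  rw [ez]
  refine mul_mem (Subgroup.mem_sup_left ?_) (Subgroup.mem_sup_right (N.diagonal_normal hD (N.nW_mem hD hl.1) hk))
  have : MulAut.conj n ⟨u, posUnipotent_le_group hu⟩ ∈ VG D F :=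
    m1.le (Subgroup.mem_map_of_mem _ (Subgroup.mem_subgroupOf.2 hu))
  exact Subgroup.mem_subgroupOf.1 this

theorem std_conj_perm [Finite F] (hD : D ∈ dataList) {z : ↥(D.group F)} {π : Equiv.Perm (Fin D.rank)}
    (h : Std hD (MulAut.conj z) π) : π = 1 := by
  obtain ⟨c, hc⟩ := conj_H_diag hD (std_conj_mem_H hD h)
  refine Equiv.ext fun i => XG_simple_inj hD (F := F) ?_
  rw [← (h.hX i).1, hc, ((std_diag hD c).hX i).1]

/-- `θ` induces `π` on the nodes -/
def HasPerm (hD : D ∈ dataList) (θ : MulAut ↥(D.group F)) (π : Equiv.Perm (Fin D.rank)) : Prop :=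
  ∃ (x : ↥(D.group F)) (φ : MulAut ↥(D.group F)), θ = MulAut.conj x * φ ∧ Std hD φ π

theorem hasPerm_exists [Finite F] (hD : D ∈ dataList) (θ : MulAut ↥(D.group F)) : ∃ π, HasPerm hD θ π := by
  obtain ⟨x, φ, e, hU, hV⟩ := exists_adjust hD θ
  obtain ⟨π, hπ, -⟩ := exists_perm hD φ hU hV
  exact ⟨π, x, φ, e, hU, hV, hπ⟩

theorem hasPerm_unique [Finite F] {hD : D ∈ dataList} {θ : MulAut ↥(D.group F)} {π π' : Equiv.Perm (Fin D.rank)}
    (h : HasPerm hD θ π) (h' : HasPerm hD θ π') : π = π' := by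
  obtain ⟨x, φ, rfl, hs⟩ := h
  obtain ⟨y, ψ, e, hs'⟩ := h'
  have e2 : MulAut.conj (y⁻¹ * x) = ψ * φ⁻¹ := by
    rw [map_mul, map_inv, eq_mul_inv_iff_mul_eq, mul_assoc, e]; group
  have := std_conj_perm hD (z := y⁻¹ * x) (π := π' * π⁻¹) (e2 ▸ hs'.mul hs.inv)
  exact (mul_inv_eq_one.1 this).symm

/-- the permutation of the nodes induced by an automorphism -/
noncomputable def perm [Finite F] (hD : D ∈ dataList) (F' : MulAut ↥(D.group F)) : Equiv.Perm (Fin D.rank) :=
  (hasPerm_exists hD F').choose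

theorem perm_eq [Finite F] {hD : D ∈ dataList} {θ : MulAut ↥(D.group F)} {π : Equiv.Perm (Fin D.rank)}
    (h : HasPerm hD θ π) : perm hD θ = π := hasPerm_unique (hasPerm_exists hD θ).choose_spec h

theorem perm_eq_std [Finite F] {hD : D ∈ dataList} {θ : MulAut ↥(D.group F)} {π : Equiv.Perm (Fin D.rank)}
    (h : Std hD θ π) : perm hD θ = π := perm_eq ⟨1, θ, by simp, h⟩

/-- the homomorphism to the permutations of the nodes -/
noncomputable def permHom [Finite F] (hD : D ∈ dataList) : MulAut ↥(D.group F) →* Equiv.Perm (Fin D.rank) :=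
  MonoidHom.mk' (perm hD) fun θ θ' => by
    obtain ⟨x, φ, e, h⟩ := (hasPerm_exists hD θ).choose_spec
    obtain ⟨y, ψ, e', h'⟩ := (hasPerm_exists hD θ').choose_spec
    refine perm_eq ⟨x * φ y, φ * ψ, ?_, h.mul h'⟩
    rw [e, e']
    refine MulEquiv.ext fun g => ?_
    simp [mul_assoc]

theorem permHom_symmetry [Finite F] (hD : D ∈ dataList) (θ : MulAut ↥(D.group F)) :
    D.IsDiagramSymmetry (permHom hD θ) := by
  obtain ⟨x, φ, -, h⟩ := (hasPerm_exists hD θ).choose_spec
  exact h.hX.symmetry hD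

theorem permHom_cases [Finite F] (hD : D ∈ dataList) (θ : MulAut ↥(D.group F)) :
    keepOK D (imgs (permHom hD θ)) = true ∨ ringChar F = ratio D ∨ (ratio D = 3 ∧ Nat.card F = 2) := by
  obtain ⟨x, φ, -, h⟩ := (hasPerm_exists hD θ).choose_spec
  obtain ⟨c, τ, g, -, -, -, hc⟩ := normal_form hD h.hX
  exact hc

theorem kernel_form [Finite F] (hD : D ∈ dataList) {θ : MulAut ↥(D.group F)} (h : permHom hD θ = 1) :
    ∃ (x : ↥(D.group F)) (c : Fin D.rank → Fˣ) (τ : F ≃+* F),
      θ = MulAut.conj x * (diagHom hD F c * fieldHom hD F τ) := by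
  obtain ⟨x, φ, e, hs⟩ := (hasPerm_exists hD θ).choose_spec
  have h1 : (hasPerm_exists hD θ).choose = 1 := h
  rw [h1] at hs
  obtain ⟨c, τ, g, -, hφ, hg, -⟩ := normal_form hD hs.hX
  have g1 : g = 1 := aut_ext hD fun i t => by
    have he : D.graphExp (ringChar F) i i = 1 := by
      unfold ChevalleyDatum.graphExp; rw [if_neg]; simp
    have := hg i t
    rw [Equiv.Perm.one_apply, he, pow_one] at this
    exact this
  exact ⟨x, c, τ, by rw [e, hφ, g1, mul_one]⟩

theorem ker_eq [Finite F] (hD : D ∈ dataList) : (permHom (F := F) hD).ker =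
    Cfsg.Inn ↥(D.group F) ⊔ ((diagHom hD F).range ⊔ (fieldHom hD F).range) := by
  refine le_antisymm (fun θ hθ => ?_) (sup_le ?_ (sup_le ?_ ?_))
  · obtain ⟨x, c, τ, rfl⟩ := kernel_form hD hθ
    exact Subgroup.mul_mem_sup ⟨x, rfl⟩ (Subgroup.mul_mem_sup ⟨c, rfl⟩ ⟨τ, rfl⟩)
  · rintro _ ⟨x, rfl⟩
    exact perm_eq ⟨x, 1, by simp, Std.one hD⟩
  · rintro _ ⟨c, rfl⟩
    exact perm_eq_std (std_diag hD c)
  · rintro _ ⟨τ, rfl⟩
    exact perm_eq_std (std_field hD τ)

theorem conj_injective [Finite F] (hD : D ∈ dataList) :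
    Function.Injective (MulAut.conj : ↥(D.group F) → MulAut ↥(D.group F)) := by
  intro x y h
  have hz : y⁻¹ * x ∈ Subgroup.center ↥(D.group F) := Subgroup.mem_center_iff.2 fun g => by
    have := DFunLike.congr_fun h g
    simp only [MulAut.conj_apply] at this
    calc g * (y⁻¹ * x) = y⁻¹ * (y * g * y⁻¹) * x := by group
      _ = y⁻¹ * (x * g * x⁻¹) * x := by rw [this]
      _ = y⁻¹ * x * g := by group
  rw [Abstract.center_group_trivial hD, Subgroup.mem_bot, inv_mul_eq_one] at hz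
  exact hz.symm

theorem card_ker [Finite F] (hD : D ∈ dataList) :
    Nat.card ↥(permHom (F := F) hD).ker * Nat.card ↥(D.diagonalSubgroup F) =
      Nat.card ↥(D.group F) * (Nat.card Fˣ ^ D.rank * Nat.card (F ≃+* F)) := by
  classical
  let Q := ↥(D.group F) ⧸ HG D F
  have hmem : ∀ (p : Q × (Fin D.rank → Fˣ) × (F ≃+* F)),
      MulAut.conj p.1.out * (diagHom hD F p.2.1 * fieldHom hD F p.2.2) ∈ (permHom (F := F) hD).ker := fun p => by
    rw [ker_eq]
    exact Subgroup.mul_mem_sup ⟨_, rfl⟩ (Subgroup.mul_mem_sup ⟨_, rfl⟩ ⟨_, rfl⟩)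
  have hbij : Function.Bijective fun p : Q × (Fin D.rank → Fˣ) × (F ≃+* F) =>
      (⟨_, hmem p⟩ : ↥(permHom (F := F) hD).ker) := by
    constructor
    · rintro ⟨q, c, τ⟩ ⟨q', c', τ'⟩ h
      have e : MulAut.conj q.out * (diagHom hD F c * fieldHom hD F τ) =
          MulAut.conj q'.out * (diagHom hD F c' * fieldHom hD F τ') := congrArg Subtype.val h
      have e2 : MulAut.conj (q'.out⁻¹ * q.out) =
          diagHom hD F c' * fieldHom hD F τ' * (diagHom hD F c * fieldHom hD F τ)⁻¹ := by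
        rw [map_mul, map_inv, eq_mul_inv_iff_mul_eq, mul_assoc, e]; group
      have hH := std_conj_mem_H hD (z := q'.out⁻¹ * q.out) (π := 1 * 1 * (1 * 1)⁻¹)
        (e2 ▸ ((std_diag hD c').mul (std_field hD τ')).mul ((std_diag hD c).mul (std_field hD τ)).inv)
      have hq : q = q' := by
        rw [← q.out_eq', ← q'.out_eq']
        exact (QuotientGroup.eq.2 (Subgroup.mem_subgroupOf.2 hH)).symm
      subst hq
      have e3 := mul_left_cancel e
      have hc : c = c' := funext fun i => by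
        have := DFunLike.congr_fun e3 (xe hD (D.simple i) 1)
        rw [MulAut.mul_apply, MulAut.mul_apply, fieldHom_simple, fieldHom_simple, map_one, map_one, diagHom_simple,
          diagHom_simple] at this
        exact Units.ext (by simpa using xe_injective hD (Rel.simple_lt hD i.2) this)
      subst hc
      rw [fieldHom_injective hD (mul_left_cancel e3)]
    · rintro ⟨θ, hθ⟩
      obtain ⟨x, c, τ, rfl⟩ := kernel_form hD hθ
      set q : Q := QuotientGroup.mk x
      have hh : q.out⁻¹ * x ∈ HG D F := QuotientGroup.eq.1 (q.out_eq')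
      obtain ⟨d, hd⟩ := conj_H_diag hD (Subgroup.mem_subgroupOf.1 hh)
      refine ⟨(q, d * c, τ), Subtype.ext ?_⟩
      show MulAut.conj q.out * (diagHom hD F (d * c) * fieldHom hD F τ) = _
      rw [map_mul, ← hd, map_mul, map_inv]; group
  rw [← Nat.card_congr (Equiv.ofBijective _ hbij), Nat.card_prod, Nat.card_prod, Nat.card_fun, Nat.card_fin]
  have : Nat.card Q * Nat.card ↥(HG D F) = Nat.card ↥(D.group F) :=
    (Subgroup.card_eq_card_quotient_mul_card_subgroup (HG D F)).symm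
  rw [← this, show Nat.card ↥(HG D F) = Nat.card ↥(D.diagonalSubgroup F) from
    Nat.card_congr (Subgroup.subgroupOfEquivOfLe (diagonal_le_group hD)).toEquiv]
  ring

theorem out_card [Fintype F] (hD : D ∈ dataList) :
    Nat.card (Cfsg.Out ↥(D.group F)) = Nat.card ↥(permHom (F := F) hD).range *
      (Nat.card (Torus.torusKer D F) * Nat.card (F ≃+* F)) := by
  have h1 : Nat.card (MulAut ↥(D.group F)) =
      Nat.card ↥(permHom (F := F) hD).range * Nat.card ↥(permHom (F := F) hD).ker := by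
    rw [← Nat.card_congr (QuotientGroup.quotientKerEquivRange (permHom (F := F) hD)).toEquiv,
      ← Subgroup.card_eq_card_quotient_mul_card_subgroup]
  have h2 : Nat.card (MulAut ↥(D.group F)) = Nat.card (Cfsg.Out ↥(D.group F)) * Nat.card ↥(D.group F) := by
    rw [Subgroup.card_eq_card_quotient_mul_card_subgroup (Cfsg.Inn ↥(D.group F))]
    congr 1
    exact (Nat.card_congr (MonoidHom.ofInjective (conj_injective hD)).toEquiv).symm
  have h3 := card_ker (F := F) hD
  have h4 : Nat.card (Torus.torusKer D F) * Nat.card ↥(D.diagonalSubgroup F) = Nat.card Fˣ ^ D.rank := by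
    rw [Torus.card_diagonal_mul hD, Nat.card_units, Nat.card_eq_fintype_card]
  have hH : 0 < Nat.card ↥(D.diagonalSubgroup F) := Nat.card_pos
  have hG : 0 < Nat.card ↥(D.group F) := Nat.card_pos
  refine Nat.eq_of_mul_eq_mul_right (Nat.mul_pos hG hH) ?_
  calc Nat.card (Cfsg.Out ↥(D.group F)) * (Nat.card ↥(D.group F) * Nat.card ↥(D.diagonalSubgroup F))
      = Nat.card ↥(permHom (F := F) hD).range *
        (Nat.card ↥(permHom (F := F) hD).ker * Nat.card ↥(D.diagonalSubgroup F)) := by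
          rw [← mul_assoc, ← h2, h1, mul_assoc]
    _ = _ := by rw [h3, ← h4]; ring

theorem galois_equiv [Fintype F] {p f : ℕ} [Fact p.Prime] (hF : Fintype.card F = p ^ f) :
    Nonempty ((F ≃+* F) ≃* Multiplicative (ZMod f)) := by
  have := charP_of_card_eq_prime_pow (R := F) hF
  letI := ZMod.algebra F p
  let e : (F ≃+* F) ≃* (F ≃ₐ[ZMod p] F) :=
    { toFun := fun σ => AlgEquiv.ofRingEquiv (f := σ) (fun x =>
        RingHom.congr_fun (Subsingleton.elim (σ.toRingHom.comp (algebraMap (ZMod p) F)) _) x)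
      invFun := fun σ => σ.toRingEquiv
      left_inv := fun σ => rfl
      right_inv := fun σ => rfl
      map_mul' := fun σ τ => rfl }
  have hcard : Nat.card (F ≃ₐ[ZMod p] F) = f := by
    rw [IsGalois.card_aut_eq_finrank]
    apply Nat.pow_right_injective (Fact.out : p.Prime).two_le
    show p ^ _ = p ^ f
    rw [← hF, Module.card_eq_pow_finrank (K := ZMod p), ZMod.card]
  exact ⟨e.trans (hcard ▸ (zmodCyclicMulEquiv (inferInstance : IsCyclic (F ≃ₐ[ZMod p] F))).symm)⟩

theorem galois_card [Fintype F] {p f : ℕ} [Fact p.Prime] (hF : Fintype.card F = p ^ f) :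
    Nat.card (F ≃+* F) = f := by
  obtain ⟨e⟩ := galois_equiv hF
  rw [Nat.card_congr e.toEquiv, Nat.card_congr Multiplicative.toAdd, Nat.card_zmod]

end CfsgLib.Chev.Aut
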