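import Cfsg.Agent.Lib.Chev.Aut.Kinds
import Cfsg.Agent.Lib.Chev.Aut.Hua

/-! The field automorphisms attached to the nodes. -/
set_option autoImplicit false
set_option maxRecDepth 100000
open Cfsg.Lie
open scoped Matrix MatrixGroups

namespace CfsgLib.Chev.Aut

open CfsgLib.Chev CfsgLib.Chev.Checks CfsgLib.Chev.Basic

variable {D : ChevalleyDatum} {F : Type*} [Field F]

/-- `n_i(t)` in the group -/
noncomputable def nG (hD : D ∈ dataList) (i : ℕ) (t : F) : ↥(D.group F) :=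
  xe hD (D.simple i) t * xe hD (ns D i) (-t⁻¹) * xe hD (D.simple i) t

/-- `h_i(t)` in the group -/
noncomputable def hG (hD : D ∈ dataList) (i : ℕ) (t : F) : ↥(D.group F) := nG hD i t * nG hD i (-1)

theorem hG_val (hD : D ∈ dataList) (i : ℕ) (t : F) : (hG hD i t : GL D.Idx F) = hGL hD F (D.simple i) t := rfl

theorem nG_conj (hD : D ∈ dataList) {i : ℕ} (hi : i < D.rank) {t : F} (ht : t ≠ 0) :
    ∃ c : F, c ≠ 0 ∧ ∀ s, nG hD i t * xe hD (D.simple i) s * (nG hD i t)⁻¹ = xe hD (ns D i) (c * s) := by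
  have hp := Rel.simple_lt hD hi
  have e : (nG hD i t : GL D.Idx F) = hGL hD F (D.simple i) t * N.ni hD F i := by
    show nGL hD F (D.simple i) t = _
    rw [hGL, ← N.ni_inv hD hi]; group
  obtain ⟨a, ha, hc⟩ := BH.conj_x hD (hGL_mem_diagonal hD hp ht) (ns D i) (Checks.neg_lt hD hp)
  refine ⟨a * (Rel.eta hD i (D.simple i) : F),
    mul_ne_zero ha (by rcases Rel.eta_cases hD i (D.simple i) with e | e <;> simp [e]), fun s => Subtype.ext ?_⟩
  rw [Subgroup.coe_mul, Subgroup.coe_mul, Subgroup.coe_inv, e, xe_val, xe_val,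
    show hGL hD F (D.simple i) t * N.ni hD F i * xGL hD F (D.simple i) s *
      (hGL hD F (D.simple i) t * N.ni hD F i)⁻¹ = hGL hD F (D.simple i) t *
      (N.ni hD F i * xGL hD F (D.simple i) s * (N.ni hD F i)⁻¹) * (hGL hD F (D.simple i) t)⁻¹ by group,
    ni_conj hD hi hp, reflect_self, hc, mul_assoc]

theorem middle_eq (hD : D ∈ dataList) {i : ℕ} (hi : i < D.rank) {a b : F} (ha : a ≠ 0)
    (h : ∀ s : F, ∃ u : F, xe hD (D.simple i) a * xe hD (ns D i) b * xe hD (D.simple i) a * xe hD (D.simple i) s *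
      (xe hD (D.simple i) a * xe hD (ns D i) b * xe hD (D.simple i) a)⁻¹ = xe hD (ns D i) u) : b = -a⁻¹ := by
  have hp := Rel.simple_lt hD hi
  have hnl := Checks.neg_lt hD hp
  set x := xe hD (D.simple i) a
  obtain ⟨c, hc, hn⟩ := nG_conj hD hi ha
  have comm : ∀ s : F, x * xe hD (D.simple i) s * x⁻¹ = xe hD (D.simple i) s := fun s => by
    rw [xe_inv hD hp, xe_add hD hp, xe_add hD hp]; congr 1; ring
  obtain ⟨u, hu⟩ := h 1
  have e := hn (c⁻¹ * u)
  rw [← mul_assoc, mul_inv_cancel₀ hc, one_mul, ← hu] at e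
  -- `x₋(b)` and `x₋(-1/a)` conjugate into the same root group
  have e2 : xe hD (ns D i) (b + a⁻¹) * xe hD (D.simple i) 1 * (xe hD (ns D i) (b + a⁻¹))⁻¹ =
      xe hD (D.simple i) (c⁻¹ * u) := by
    have l : ∀ z : F, ∀ s : F, x * xe hD (ns D i) z * x * xe hD (D.simple i) s * (x * xe hD (ns D i) z * x)⁻¹ =
        x * (xe hD (ns D i) z * xe hD (D.simple i) s * (xe hD (ns D i) z)⁻¹) * x⁻¹ := fun z s => by
      calc x * xe hD (ns D i) z * x * xe hD (D.simple i) s * (x * xe hD (ns D i) z * x)⁻¹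
          = x * (xe hD (ns D i) z * (x * xe hD (D.simple i) s * x⁻¹) * (xe hD (ns D i) z)⁻¹) * x⁻¹ := by group
        _ = _ := by rw [comm]
    rw [show nG hD i a = x * xe hD (ns D i) (-a⁻¹) * x from rfl, l, l, mul_left_inj, mul_right_inj] at e
    rw [← xe_add hD hnl b a⁻¹, show xe hD (ns D i) a⁻¹ = (xe hD (ns D i) (-a⁻¹))⁻¹ by rw [xe_inv hD hnl, neg_neg]]
    have comm2 : xe hD (ns D i) b * (xe hD (ns D i) (-a⁻¹))⁻¹ = (xe hD (ns D i) (-a⁻¹))⁻¹ * xe hD (ns D i) b := by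
      rw [xe_inv hD hnl, xe_add hD hnl, xe_add hD hnl, add_comm]
    rw [comm2]
    calc (xe hD (ns D i) (-a⁻¹))⁻¹ * xe hD (ns D i) b * xe hD (D.simple i) 1 *
          ((xe hD (ns D i) (-a⁻¹))⁻¹ * xe hD (ns D i) b)⁻¹
        = (xe hD (ns D i) (-a⁻¹))⁻¹ * (xe hD (ns D i) b * xe hD (D.simple i) 1 * (xe hD (ns D i) b)⁻¹) *
          xe hD (ns D i) (-a⁻¹) := by group
      _ = _ := by rw [← e]; group
  by_contra hne
  have hd : b + a⁻¹ ≠ 0 := fun e => hne (eq_neg_of_add_eq_zero_left e)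
  set d := b + a⁻¹
  obtain ⟨c', hc', hn'⟩ := nG_conj hD hi (neg_ne_zero.2 (inv_ne_zero hd))
  set y := xe hD (D.simple i) d⁻¹
  have e3 : xe hD (ns D i) d = y * nG hD i (-d⁻¹) * y := by
    rw [nG, inv_neg, inv_inv, neg_neg]
    simp only [y, ← mul_assoc]
    rw [xe_add hD hp, add_neg_cancel, xe_zero, one_mul, mul_assoc, xe_add hD hp, neg_add_cancel, xe_zero, mul_one]
  have comm' : ∀ s : F, y * xe hD (D.simple i) s * y⁻¹ = xe hD (D.simple i) s := fun s => by
    rw [xe_inv hD hp, xe_add hD hp, xe_add hD hp]; congr 1; ring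
  have e4 : y * xe hD (ns D i) (c' * 1) * y⁻¹ = xe hD (D.simple i) (c⁻¹ * u) := by
    rw [← hn', ← e2, e3]
    calc _ = y * nG hD i (-d⁻¹) * (y * xe hD (D.simple i) 1 * y⁻¹) * (nG hD i (-d⁻¹))⁻¹ * y⁻¹ := by
          rw [comm']; group
      _ = _ := by group
  have e5 : xe hD (ns D i) (c' * 1) = xe hD (D.simple i) (c⁻¹ * u) :=
    calc xe hD (ns D i) (c' * 1) = y⁻¹ * (y * xe hD (ns D i) (c' * 1) * y⁻¹) * y := by group
      _ = y⁻¹ * xe hD (D.simple i) (c⁻¹ * u) * y := by rw [e4]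
      _ = _ := by rw [mul_assoc, xe_inv hD hp, xe_add hD hp, xe_add hD hp]; congr 1; ring
  have hr := xe_root_inj hD hnl hp (by simpa using hc') e5
  exact N.not_pos_neg hD (N.simple_pos hD hi) (show D.IsPosRoot (D.neg (D.simple i)) by
    rw [show D.neg (D.simple i) = D.simple i from hr]; exact N.simple_pos hD hi)

theorem exists_coord (hD : D ∈ dataList) (φ : MulAut ↥(D.group F)) {r s : ℕ} (hr : r < D.nroots) (hs : s < D.nroots)
    (h : (XG hD F r).map φ.toMonoidHom = XG hD F s) :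
    ∃ f : F → F, (∀ t, φ (xe hD r t) = xe hD s (f t)) ∧ (∀ t u, f (t + u) = f t + f u) ∧ Function.Injective f := by
  have : ∀ t, ∃ u, φ (xe hD r t) = xe hD s u := fun t =>
    (mem_XG hD hs).1 (h ▸ Subgroup.mem_map_of_mem _ (xe_mem_XG hD hr t))
  choose f hf using this
  refine ⟨f, hf, fun t u => xe_injective hD hs ?_, fun t u e => xe_injective hD hr (φ.injective ?_)⟩
  · rw [← hf, ← xe_add hD hr, map_mul, hf, hf, xe_add hD hs]
  · rw [hf, hf, e]

/-- after a diagonal correction every node carries a field automorphism -/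
theorem exists_sigmas [Finite F] (hD : D ∈ dataList) {φ : MulAut ↥(D.group F)} {π : Equiv.Perm (Fin D.rank)}
    (h : PermX hD φ π) :
    ∃ (c : Fin D.rank → Fˣ) (σ : Fin D.rank → F ≃+* F), ∀ (i : Fin D.rank) (t : F),
      (diagHom hD F c * φ) (xe hD (D.simple i) t) = xe hD (D.simple (π i)) (σ i t) ∧
      (diagHom hD F c * φ) (xe hD (ns D i) t) = xe hD (ns D (π i)) (σ i t) := by
  choose f hf fadd finj using fun i : Fin D.rank =>
    exists_coord hD φ (Rel.simple_lt hD i.2) (Rel.simple_lt hD (π i).2) (h i).1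
  have f1 : ∀ i, f i 1 ≠ 0 := fun i e => one_ne_zero (finj i (e.trans (by simpa using fadd i 0 0 : f i 0 = 0).symm))
  let c : Fin D.rank → Fˣ := fun j => (Units.mk0 _ (f1 (π⁻¹ j)))⁻¹
  set ψ := diagHom hD F c * φ
  have hψ : PermX hD ψ π := by
    intro i
    have hd : ∀ r < D.nroots, (XG hD F r).map (diagHom hD F c).toMonoidHom = XG hD F r := fun r hr => by
      ext g
      simp only [Subgroup.mem_map, MulEquiv.coe_toMonoidHom, mem_XG hD hr]
      constructor
      · rintro ⟨_, ⟨t, rfl⟩, rfl⟩; exact ⟨_, diagAut_xe hD c hr t⟩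
      · rintro ⟨t, rfl⟩
        refine ⟨_, ⟨((RootChar.ext hD c r)⁻¹ : Fˣ) * t, rfl⟩, ?_⟩
        show diagAut hD c _ = _
        rw [diagAut_xe hD c hr, ← mul_assoc, ← Units.val_mul, mul_inv_cancel, Units.val_one, one_mul]
    rw [show ψ.toMonoidHom = (diagHom hD F c).toMonoidHom.comp φ.toMonoidHom from rfl, ← Subgroup.map_map,
      ← Subgroup.map_map, (h i).1, (h i).2, hd _ (Rel.simple_lt hD (π i).2),
      hd _ (Checks.neg_lt hD (Rel.simple_lt hD (π i).2))]
    exact ⟨rfl, rfl⟩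
  suffices H : ∀ i : Fin D.rank, ∃ σ : F ≃+* F, ∀ t, ψ (xe hD (D.simple i) t) = xe hD (D.simple (π i)) (σ t) ∧
      ψ (xe hD (ns D i) t) = xe hD (ns D (π i)) (σ t) by
    choose σ hσ using H
    exact ⟨c, σ, hσ⟩
  intro i
  have hp := Rel.simple_lt hD i.2
  have hq := Rel.simple_lt hD (π i).2
  obtain ⟨a, ha, aadd, ainj⟩ := exists_coord hD ψ hp hq (hψ i).1
  obtain ⟨b, hb, badd, binj⟩ := exists_coord hD ψ (Checks.neg_lt hD hp) (Checks.neg_lt hD hq) (hψ i).2
  have a1 : a 1 = 1 := by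
    refine xe_injective hD hq ?_
    rw [← ha, MulAut.mul_apply, hf, diagHom_simple]
    congr 1
    simp [c, inv_mul_cancel₀ (f1 i)]
  have aneg : ∀ x, a (-x) = -a x := fun x => by
    have h0 : a 0 = 0 := by simpa using aadd 0 0
    have := aadd x (-x); rw [add_neg_cancel, h0] at this; exact eq_neg_of_add_eq_zero_right this.symm
  have bneg : ∀ x, b (-x) = -b x := fun x => by
    have h0 : b 0 = 0 := by simpa using badd 0 0
    have := badd x (-x); rw [add_neg_cancel, h0] at this; exact eq_neg_of_add_eq_zero_right this.symm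
  have hab : ∀ s : F, s ≠ 0 → b s⁻¹ = (a s)⁻¹ := by
    intro s hs
    have a0 : a 0 = 0 := by simpa using aadd 0 0
    have has : a s ≠ 0 := fun e => hs (ainj (e.trans a0.symm))
    obtain ⟨c', -, hn⟩ := nG_conj hD i.2 hs
    have := middle_eq hD (π i).2 (b := b (-s⁻¹)) has fun z => by
      obtain ⟨z', rfl⟩ := (Finite.injective_iff_surjective.1 ainj) z
      refine ⟨b (c' * z'), ?_⟩
      rw [← ha s, ← hb (-s⁻¹), ← ha z', ← hb (c' * z'), ← hn z', nG]
      simp [map_mul, map_inv]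
    rw [bneg, neg_inj] at this
    exact this
  obtain ⟨σ, hσ⟩ := field_of_hua a b aadd badd ainj a1 hab
  exact ⟨σ, fun t => ⟨by rw [ha, (hσ t).1], by rw [hb, (hσ t).2]⟩⟩

theorem sigma_link (hD : D ∈ dataList) {ψ : MulAut ↥(D.group F)} {π : Equiv.Perm (Fin D.rank)}
    {σ : Fin D.rank → F ≃+* F} (h : ∀ (i : Fin D.rank) (t : F),
      ψ (xe hD (D.simple i) t) = xe hD (D.simple (π i)) (σ i t) ∧
      ψ (xe hD (ns D i) t) = xe hD (ns D (π i)) (σ i t))
    (i j : Fin D.rank) {c : F} (hc : c ≠ 0) :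
    σ j c ^ D.cartan i (D.simple j) = σ i c ^ D.cartan (π i) (D.simple (π j)) := by
  have hn : ∀ z : F, ψ (nG hD i z) = nG hD (π i) (σ i z) := fun z => by
    simp only [nG, map_mul, (h i z).1, (h i (-z⁻¹)).2, map_neg, map_inv₀]
  have hh : ψ (hG hD i c) = hG hD (π i) (σ i c) := by
    rw [hG, map_mul, hn, hn, map_neg, map_one]; rfl
  have hσc : σ i c ≠ 0 := (map_ne_zero_iff _ (σ i).injective).2 hc
  have e : hG hD i c * xe hD (D.simple j) 1 * (hG hD i c)⁻¹ =
      xe hD (D.simple j) (c ^ D.cartan i (D.simple j)) := Subtype.ext (by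
    rw [Subgroup.coe_mul, Subgroup.coe_mul, Subgroup.coe_inv, hG_val, xe_val, xe_val,
      Weight.h_conj_GL hD (Rel.simple_lt hD i.2) (Rel.simple_lt hD j.2) hc, Diag.pairing_simple hD i.2, mul_one])
  have e' : hG hD (π i) (σ i c) * xe hD (D.simple (π j)) 1 * (hG hD (π i) (σ i c))⁻¹ =
      xe hD (D.simple (π j)) (σ i c ^ D.cartan (π i) (D.simple (π j))) := Subtype.ext (by
    rw [Subgroup.coe_mul, Subgroup.coe_mul, Subgroup.coe_inv, hG_val, xe_val, xe_val,
      Weight.h_conj_GL hD (Rel.simple_lt hD (π i).2) (Rel.simple_lt hD (π j).2) hσc,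
      Diag.pairing_simple hD (π i).2, mul_one])
  have := congrArg ψ e
  rw [map_mul, map_mul, map_inv, hh, (h j 1).1, (h j _).1, map_one, e', map_zpow₀] at this
  exact (xe_injective hD (Rel.simple_lt hD (π j).2) this).symm

end CfsgLib.Chev.Aut
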