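import Cfsg.Agent.Lib.Chev.Aut.Borel

/-! Minimal parabolic subgroups and the images of the fundamental root subgroups under an automorphism
fixing `U` and `V`; symmetries of the diagram. -/
set_option autoImplicit false
set_option maxRecDepth 100000
open Cfsg.Lie
open scoped Matrix MatrixGroups

namespace CfsgLib.Chev.Aut

open CfsgLib.Chev CfsgLib.Chev.Checks CfsgLib.Chev.Basic

variable {D : ChevalleyDatum} {F : Type*} [Field F]

/-- negative of a fundamental root -/
abbrev ns (D : ChevalleyDatum) (i : ℕ) : ℕ := D.neg (D.simple i)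

theorem ns_neg (hD : D ∈ dataList) {i : ℕ} (hi : i < D.rank) : D.IsNegRoot (ns D i) :=
  BN.neg_simple_neg hD (N.simple_pos hD hi)

/-- the minimal parabolic subgroup in the group -/
noncomputable def PG (hD : D ∈ dataList) (F : Type*) [Field F] (i : Fin D.rank) : Subgroup ↥(D.group F) :=
  (BN.rankOne (F := F) hD i.2).subgroupOf (D.group F)

theorem mem_PG (hD : D ∈ dataList) (i : Fin D.rank) {g : ↥(D.group F)} :
    g ∈ PG hD F i ↔ (g : GL D.Idx F) ∈ D.borelSubgroup F ∨ (g : GL D.Idx F) ∈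
      DoubleCoset.doubleCoset (N.ni hD F i) (D.borelSubgroup F : Set (GL D.Idx F)) (D.borelSubgroup F) :=
  Iff.rfl

noncomputable abbrev niG (hD : D ∈ dataList) (F : Type*) [Field F] (i : ℕ) : ↥(D.group F) :=
  ⟨N.ni hD F i, BN.ni_mem_group hD i⟩

theorem niG_mem_PG (hD : D ∈ dataList) (i : Fin D.rank) : niG hD F i ∈ PG hD F i :=
  (mem_PG hD i).2 (Or.inr (DoubleCoset.mem_doubleCoset.2 ⟨1, one_mem _, 1, one_mem _, by simp⟩))

theorem niG_not_mem_BG (hD : D ∈ dataList) {i : ℕ} (hi : i < D.rank) : niG hD F i ∉ BG D F := fun h => by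
  have h' : N.ni hD F i ∈ D.borelSubgroup F := Subgroup.mem_subgroupOf.1 h
  exact BN.ni_conj_ne hD hi (mul_mem (mul_mem h' (BN.mem_borel_of_pos hD (N.simple_pos hD hi) 1)) h')

theorem BG_le_PG (hD : D ∈ dataList) (i : Fin D.rank) : BG D F ≤ PG hD F i := fun _ h =>
  (mem_PG hD i).2 (Or.inl (Subgroup.mem_subgroupOf.1 h))

theorem BG_lt_PG (hD : D ∈ dataList) (i : Fin D.rank) : BG D F < PG hD F i :=
  lt_of_le_not_ge (BG_le_PG hD i) fun h => niG_not_mem_BG hD i.2 (h (niG_mem_PG hD i))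

theorem le_of_niG_mem (hD : D ∈ dataList) (i : Fin D.rank) {M : Subgroup ↥(D.group F)} (hB : BG D F ≤ M)
    (hn : niG hD F i ∈ M) : PG hD F i ≤ M := by
  intro g hg
  rcases (mem_PG hD i).1 hg with h | h
  · exact hB (Subgroup.mem_subgroupOf.2 h)
  · obtain ⟨x, hx, y, hy, e⟩ := DoubleCoset.mem_doubleCoset.1 h
    have e' : g = ⟨x, borel_le_group hD hx⟩ * niG hD F i * ⟨y, borel_le_group hD hy⟩ := Subtype.ext e
    rw [e']
    exact mul_mem (mul_mem (hB (Subgroup.mem_subgroupOf.2 hx)) hn) (hB (Subgroup.mem_subgroupOf.2 hy))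

theorem exists_PG_le (hD : D ∈ dataList) {M : Subgroup ↥(D.group F)} (h : BG D F < M) :
    ∃ i : Fin D.rank, PG hD F i ≤ M := by
  let P := BN.bnPair (F := F) hD
  by_contra hne
  push Not at hne
  refine h.not_ge ?_
  have e := CfsgLib.BNPair.Parabolic.eq_parabolic P (M := M) h.le
  rw [e]
  refine sup_le le_rfl ((Subgroup.closure_le _).2 fun n hn => ?_)
  obtain ⟨i, hi, he⟩ := BN.genSet_val hD hn.1
  exfalso
  refine hne ⟨i, hi⟩ (le_of_niG_mem hD _ h.le ?_)
  rw [show niG hD F i = n from Subtype.ext he.symm]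
  exact hn.2

theorem PG_atom (hD : D ∈ dataList) (i : Fin D.rank) {M : Subgroup ↥(D.group F)} (h : BG D F < M)
    (hle : M ≤ PG hD F i) : M = PG hD F i := by
  obtain ⟨x, hxM, hxB⟩ := SetLike.exists_of_lt h
  refine le_antisymm hle (le_of_niG_mem hD i h.le ?_)
  rcases (mem_PG hD i).1 (hle hxM) with h' | h'
  · exact absurd (Subgroup.mem_subgroupOf.2 h') hxB
  · obtain ⟨a, ha, b, hb, e⟩ := DoubleCoset.mem_doubleCoset.1 h'
    have e' : niG hD F i = (⟨a, borel_le_group hD ha⟩ : ↥(D.group F))⁻¹ * x *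
        (⟨b, borel_le_group hD hb⟩ : ↥(D.group F))⁻¹ := Subtype.ext (by
      simp only [Subgroup.coe_mul, Subgroup.coe_inv, e]; group)
    rw [e']
    exact mul_mem (mul_mem (inv_mem (h.le (Subgroup.mem_subgroupOf.2 ha))) hxM)
      (inv_mem (h.le (Subgroup.mem_subgroupOf.2 hb)))

theorem xe_ns_mem_PG (hD : D ∈ dataList) (i : Fin D.rank) (t : F) : xe hD (ns D i) t ∈ PG hD F i := by
  by_cases ht : t = 0
  · rw [ht, xe_zero]; exact one_mem _
  · obtain ⟨a, a', h, hh, e⟩ := BN.neg_root_big_cell hD i.2 ht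
    exact (mem_PG hD i).2 (Or.inr (DoubleCoset.mem_doubleCoset.2
      ⟨xGL hD F (D.simple i) a * h, mul_mem (BN.mem_borel_of_pos hD (N.simple_pos hD i.2) a)
        (Subgroup.mem_sup_right hh), xGL hD F (D.simple i) a', BN.mem_borel_of_pos hD (N.simple_pos hD i.2) a', e⟩))

/-- negative roots other than `-p_i` -/
def OffNeg (D : ChevalleyDatum) (i s : ℕ) : Prop := D.IsNegRoot s ∧ s ≠ ns D i

theorem offNeg_stable (hD : D ∈ dataList) {i r : ℕ} (hi : i < D.rank)
    (hr : r = D.simple i ∨ r = ns D i) :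
    ∀ s, OffNeg D i s → s < D.nroots ∧ s ≠ D.neg r ∧ ∀ c ∈ D.commTerms r s, OffNeg D i c.1 := by
  have hp := Rel.simple_lt hD hi
  have hrl : r < D.nroots := by rcases hr with rfl | rfl; exacts [hp, Checks.neg_lt hD hp]
  have hr0 : ∀ k, k < D.rank → k ≠ i → Weight.coef hD k r = 0 := by
    intro k hk hne
    rcases hr with rfl | rfl
    · rw [Weight.coef_simple hD hi hk, if_neg (Ne.symm hne)]
    · rw [Weight.coef_neg hD hk hp, Weight.coef_simple hD hi hk, if_neg (Ne.symm hne), neg_zero]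
  intro s hs
  have hsp := Checks.neg_pos_of_neg hD hs.1.1 hs.1
  obtain ⟨k, hk, hki, hkpos⟩ := RootGen.exists_other_coef hD (i := i) hsp fun e => hs.2 (by
    rw [ns, ← e, Checks.neg_neg_root hD hs.1.1])
  rw [Weight.coef_neg hD hk hs.1.1] at hkpos
  refine ⟨hs.1.1, fun e => ?_, fun c hc => ?_⟩
  · rw [e, Weight.coef_neg hD hk hrl, hr0 k hk hki] at hkpos
    exact absurd hkpos (by norm_num)
  · obtain ⟨hcl, hcc⟩ := RootGen.commTerms_coef hD hk hrl hs.1.1 hc
    rw [hr0 k hk hki, mul_zero, zero_add] at hcc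
    have he := (Orbit.commTerms_exp hc).2
    have hneg : Weight.coef hD k c.1 < 0 := by
      rw [hcc]; exact mul_neg_of_pos_of_neg (by exact_mod_cast he) (by linarith)
    refine ⟨(Checks.pos_or_neg hD hcl).resolve_left fun hp' => ?_, fun e => ?_⟩
    · exact absurd (Weight.coef_nonneg hD hk hp') (not_le.2 hneg)
    · rw [e, ns, Weight.coef_neg hD hk hp, Weight.coef_simple hD hi hk, if_neg (Ne.symm hki), neg_zero] at hneg
      exact lt_irrefl _ hneg

theorem offNeg_normalized (hD : D ∈ dataList) {i r : ℕ} (hi : i < D.rank) (hr : r = D.simple i ∨ r = ns D i) :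
    D.rootSubgroup F r ≤ Subgroup.normalizer (RootGen.gen D F (OffNeg D i) : Set (GL D.Idx F)) := by
  refine RootGen.rootSubgroup_le_normalizer hD ?_ (offNeg_stable hD hi hr)
  rcases hr with rfl | rfl
  exacts [Rel.simple_lt hD hi, Checks.neg_lt hD (Rel.simple_lt hD hi)]

theorem mem_neg_split (hD : D ∈ dataList) {i : ℕ} (hi : i < D.rank) {v : GL D.Idx F}
    (hv : v ∈ D.negUnipotent F) :
    ∃ w ∈ RootGen.gen D F (OffNeg D i), ∃ t : F, w * xGL hD F (ns D i) t = v := by
  have hle : D.negUnipotent F ≤ RootGen.gen D F (OffNeg D i) ⊔ D.rootSubgroup F (ns D i) :=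
    RootGen.gen_le hD (P := D.IsNegRoot) fun s hs t => by
      by_cases h : s = ns D i
      · subst h; exact Subgroup.mem_sup_right (BN.xGL_mem_root hD hs.1 t)
      · exact Subgroup.mem_sup_left (RootGen.xGL_mem_gen hD (show OffNeg D i s from ⟨hs, h⟩) t)
  have h := hle hv
  rw [← SetLike.mem_coe,
    Subgroup.coe_mul_of_right_le_normalizer_left _ _ (offNeg_normalized hD hi (Or.inr rfl))] at h
  obtain ⟨w, hw, x, hx, rfl⟩ := Set.mem_mul.1 h
  obtain ⟨t, rfl⟩ := (Rel.mem_rootSubgroup hD (Checks.neg_lt hD (Rel.simple_lt hD hi))).1 hx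
  exact ⟨w, hw, t, rfl⟩

theorem ni_not_mem_negB (hD : D ∈ dataList) [Finite F] {i : ℕ} (hi : i < D.rank) {v b : GL D.Idx F}
    (hv : v ∈ D.negUnipotent F) (hb : b ∈ D.borelSubgroup F) : v ≠ N.ni hD F i * b := by
  intro h
  obtain ⟨l, hl⟩ := exists_rev hD
  have hm := (map_UG (F := F) hD hl).1
  obtain ⟨u, hu, e⟩ : ⟨v, negUnipotent_le_group hv⟩ ∈ (UG D F).map (MulAut.conj (wG hD F l hl.1)).toMonoidHom := by
    rw [hm]; exact Subgroup.mem_subgroupOf.2 hv
  have e' : N.nW hD F l * (u : GL D.Idx F) * (N.nW hD F l)⁻¹ = v := congrArg Subtype.val e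
  have hn0 := N.nW_mem (F := F) hD hl.1
  have hni : N.ni hD F i ∈ D.monomialSubgroup F := nGL_one_mem_monomial hD (Rel.simple_lt hD hi)
  have := Canonical.cell_unique hD (b := 1) (n := (N.nW hD F l)⁻¹ * N.ni hD F i) (u := b)
    (b' := (u : GL D.Idx F)) (n' := (N.nW hD F l)⁻¹) (u' := 1) (one_mem _)
    (Subgroup.mem_sup_left (Subgroup.mem_subgroupOf.1 hu)) (mul_mem (inv_mem hn0) hni) (inv_mem hn0) hb (one_mem _) (by
      rw [one_mul, mul_one, mul_assoc, ← h, ← e']; group)
  rw [mul_inv_rev, inv_inv, mul_assoc, mul_inv_cancel, mul_one] at this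
  have h2 := inv_mem (Subgroup.mem_sup_right this : (N.ni hD F i)⁻¹ ∈ D.borelSubgroup F)
  rw [inv_inv] at h2
  exact niG_not_mem_BG hD hi (Subgroup.mem_subgroupOf.2 h2)

theorem PG_inf_VG (hD : D ∈ dataList) [Finite F] (i : Fin D.rank) :
    PG hD F i ⊓ VG D F = XG hD F (ns D i) := by
  have hnl := Checks.neg_lt hD (Rel.simple_lt hD i.2)
  refine le_antisymm (fun g hg => ?_) fun g hg => ?_
  swap
  · obtain ⟨t, rfl⟩ := (mem_XG hD hnl).1 hg
    exact ⟨xe_ns_mem_PG hD i t, xe_mem_VG hD (ns_neg hD i.2) t⟩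
  obtain ⟨w, hw, t, he⟩ := mem_neg_split hD i.2 (Subgroup.mem_subgroupOf.1 hg.2)
  have hwV : w ∈ D.negUnipotent F :=
    RootGen.gen_le hD (fun s hs u => xGL_mem_neg hD hs.1 u) hw
  have hwP : (⟨w, negUnipotent_le_group hwV⟩ : ↥(D.group F)) ∈ PG hD F i := by
    have : (⟨w, negUnipotent_le_group hwV⟩ : ↥(D.group F)) = g * (xe hD (ns D i) t)⁻¹ :=
      Subtype.ext (by simp [xe, ← he])
    rw [this]
    exact mul_mem hg.1 (inv_mem (xe_ns_mem_PG hD i t))
  suffices h1 : w = 1 by
    refine (mem_XG hD hnl).2 ⟨t, Subtype.ext ?_⟩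
    rw [← he, h1, one_mul]; rfl
  rcases (mem_PG hD i).1 hwP with h | h
  · exact Subgroup.mem_bot.1 ((BH.borel_inf_neg hD).le ⟨h, hwV⟩)
  exfalso
  obtain ⟨a, ha, c, hc, e⟩ := DoubleCoset.mem_doubleCoset.1 h
  have e' : w = a * N.ni hD F i * c := e
  obtain ⟨u, hu, k, hk, rfl⟩ := (BH.mem_borel_iff hD).1 hc
  obtain ⟨u0, hu0, s, rfl⟩ := BN.mem_pos_split hD i.2 hu
  -- `w = b₀ n_i x(s) k`
  obtain ⟨a', -, hconj⟩ := BH.conj_x hD (inv_mem hk) (D.simple i) (Rel.simple_lt hD i.2)
  have hmid : N.ni hD F i * u0 * (N.ni hD F i)⁻¹ ∈ BN.Ui D F i :=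
    (Subgroup.mem_normalizer_iff.1 (BN.ni_mem_normalizer hD i.2) u0).1 hu0
  have hk2 : N.ni hD F i * k * (N.ni hD F i)⁻¹ ∈ D.diagonalSubgroup F :=
    N.diagonal_normal hD (nGL_one_mem_monomial hD (Rel.simple_lt hD i.2)) hk
  set x := xGL hD F (D.simple i) (a' * s)
  set b₀ := a * (N.ni hD F i * u0 * (N.ni hD F i)⁻¹) * (N.ni hD F i * k * (N.ni hD F i)⁻¹)
  have hb₀ : b₀ ∈ D.borelSubgroup F :=
    mul_mem (mul_mem ha (Subgroup.mem_sup_left (BN.Ui_le hD i hmid))) (Subgroup.mem_sup_right hk2)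
  have e2 : w = b₀ * N.ni hD F i * x := by
    rw [e']
    simp only [b₀, x]
    rw [← hconj s]
    group
  -- move `x` across the off-simple negative part
  have hxN : x ∈ Subgroup.normalizer (RootGen.gen D F (OffNeg D i) : Set (GL D.Idx F)) :=
    offNeg_normalized hD i.2 (Or.inl rfl) (BN.xGL_mem_root hD (Rel.simple_lt hD i.2) _)
  have hnN : N.ni hD F i ∈ Subgroup.normalizer (RootGen.gen D F (OffNeg D i) : Set (GL D.Idx F)) := by
    have hp := Rel.simple_lt hD i.2
    have h1 := offNeg_normalized (F := F) hD i.2 (Or.inl rfl) (BN.xGL_mem_root hD hp 1)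
    have h2 := offNeg_normalized (F := F) hD i.2 (Or.inr rfl) (BN.xGL_mem_root hD (Checks.neg_lt hD hp) (-(1 : F)⁻¹))
    exact mul_mem (mul_mem h1 h2) h1
  have hw' : x * w * x⁻¹ ∈ RootGen.gen D F (OffNeg D i) := (Subgroup.mem_normalizer_iff.1 hxN w).1 hw
  set w'' := N.ni hD F i * (x * w * x⁻¹) * (N.ni hD F i)⁻¹
  have hw'' : w'' ∈ D.negUnipotent F :=
    RootGen.gen_le hD (fun s hs u => xGL_mem_neg hD hs.1 u) ((Subgroup.mem_normalizer_iff.1 hnN _).1 hw')
  refine ni_not_mem_negB hD i.2 hw'' (mul_mem (BN.mem_borel_of_pos hD (N.simple_pos hD i.2) (a' * s)) hb₀) ?_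
  simp only [w'', e2, x]
  group

/-- elementwise commutation of two subgroups -/
def Comm {G : Type*} [Group G] (A B : Subgroup G) : Prop := ∀ a ∈ A, ∀ b ∈ B, a * b = b * a

theorem Comm.map {G : Type*} [Group G] {A B : Subgroup G} (h : Comm A B) (φ : MulAut G) :
    Comm (A.map φ.toMonoidHom) (B.map φ.toMonoidHom) := by
  rintro _ ⟨a, ha, rfl⟩ _ ⟨b, hb, rfl⟩
  rw [← map_mul, h a ha b hb, map_mul]

theorem comm_mixed (hD : D ∈ dataList) {i j : ℕ} (hi : i < D.rank) (hj : j < D.rank) (hij : i ≠ j) :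
    Comm (XG hD F (D.simple i)) (XG hD F (ns D j)) := by
  have hp := Rel.simple_lt hD hi
  have hnl := Checks.neg_lt hD (Rel.simple_lt hD hj)
  intro a ha b hb
  obtain ⟨t, rfl⟩ := (mem_XG hD hp).1 ha
  obtain ⟨u, rfl⟩ := (mem_XG hD hnl).1 hb
  have hne : ns D j ≠ D.simple i := fun e =>
    N.not_pos_neg hD (N.simple_pos hD hj) (show D.IsPosRoot (ns D j) from e ▸ N.simple_pos hD hi)
  have hne2 : ns D j ≠ D.neg (D.simple i) := fun e => hij (Weight.simple_inj hD hi hj (by
    rw [← Checks.neg_neg_root hD hp, ← e, Checks.neg_neg_root hD (Rel.simple_lt hD hj)]))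
  have hempty : D.commTerms (D.simple i) (ns D j) = [] := by
    rw [List.eq_nil_iff_forall_not_mem]
    intro c hc
    obtain ⟨hcl, h1⟩ := RootGen.commTerms_coef hD hi hp hnl hc
    obtain ⟨-, h2⟩ := RootGen.commTerms_coef hD hj hp hnl hc
    rw [Weight.coef_simple hD hi hi, if_pos rfl, Weight.coef_neg hD hi (Rel.simple_lt hD hj),
      Weight.coef_simple hD hj hi, if_neg (Ne.symm hij)] at h1
    rw [Weight.coef_simple hD hi hj, if_neg hij, Weight.coef_neg hD hj (Rel.simple_lt hD hj),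
      Weight.coef_simple hD hj hj, if_pos rfl] at h2
    have he := Orbit.commTerms_exp hc
    rcases Checks.pos_or_neg hD hcl with h | h
    · have := Weight.coef_nonneg hD hj h
      have : (0 : ℤ) < c.2.2.2 := by exact_mod_cast he.2
      linarith
    · have := RootGen.coef_nonpos hD hi h
      have : (0 : ℤ) < c.2.2.1 := by exact_mod_cast he.1
      linarith
  refine Subtype.ext ?_
  have h := Rel.comm_GL (F := F) hD hp hnl hne hne2 t u
  simp [ChevalleyDatum.commWord, hempty, Rel.wordGL] at h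
  simpa [xe] using h.symm

theorem not_comm_self (hD : D ∈ dataList) {i : ℕ} (hi : i < D.rank) :
    ¬ Comm (XG hD F (D.simple i)) (XG hD F (ns D i)) := by
  intro h
  have hp := Rel.simple_lt hD hi
  have hnl := Checks.neg_lt hD hp
  set x := xe hD (D.simple i) (1 : F)
  set y := xe hD (ns D i) (-(1 : F)⁻¹)
  have hxy : x * y = y * x := h x (xe_mem_XG hD hp 1) y (xe_mem_XG hD hnl _)
  have hn : niG hD F i = x * y * x := Subtype.ext rfl
  have hfix : niG hD F i * x * (niG hD F i)⁻¹ = x := by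
    rw [hn, mul_inv_eq_iff_eq_mul]
    calc x * y * x * x = x * y * x * x := rfl
      _ = x * ((y * x) * x) := by group
      _ = x * ((x * y) * x) := by rw [hxy]
      _ = _ := by group
  have e := congrArg Subtype.val hfix
  simp only [Subgroup.coe_mul, Subgroup.coe_inv, x, xe_val, ni_conj hD hi hp, reflect_self] at e
  have := N.xGL_inj hD hnl hp (t := (Rel.eta hD i (D.simple i) : F) * 1)
    (by rcases Rel.eta_cases hD i (D.simple i) with e | e <;> simp [e]) e
  exact N.not_pos_neg hD (N.simple_pos hD hi) (show D.IsPosRoot (D.neg (D.simple i)) by rw [this]; exact N.simple_pos hD hi)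

/-- the table fact about adjacent and non-adjacent nodes -/
def adjOK (D : ChevalleyDatum) : Bool :=
  (List.range D.rank).all fun i => (List.range D.rank).all fun j => i == j ||
    if D.bonds i j == 0 then
      (D.commTerms (D.simple i) (D.simple j)).isEmpty && (D.commTerms (ns D i) (ns D j)).isEmpty
    else D.reflectRoot i (D.reflectRoot j (D.simple i)) != D.reflectRoot j (D.reflectRoot i (D.simple i))

theorem adjOK_all : ∀ D ∈ dataList, adjOK D = true := by
  intro D hD
  simp only [dataList, List.mem_cons, List.not_mem_nil, or_false] at hD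
  rcases hD with rfl | rfl | rfl | rfl | rfl | rfl | rfl <;> decide +kernel

theorem comm_of_bonds (hD : D ∈ dataList) {i j : ℕ} (hi : i < D.rank) (hj : j < D.rank) (hij : i ≠ j)
    (hb : D.bonds i j = 0) :
    Comm (XG hD F (D.simple i)) (XG hD F (D.simple j)) ∧ Comm (XG hD F (ns D i)) (XG hD F (ns D j)) := by
  have h := adjOK_all D hD
  simp only [adjOK, List.all_eq_true, List.mem_range, Bool.or_eq_true, beq_iff_eq] at h
  have h' := (h i hi j hj).resolve_left hij
  rw [if_pos hb, Bool.and_eq_true, List.isEmpty_iff, List.isEmpty_iff] at h'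
  have hp := Rel.simple_lt hD hi
  have hq := Rel.simple_lt hD hj
  have main : ∀ {r s : ℕ}, r < D.nroots → s < D.nroots → s ≠ r → s ≠ D.neg r → D.commTerms r s = [] →
      Comm (XG hD F r) (XG hD F s) := by
    intro r s hr hs h1 h2 he a ha b hb'
    obtain ⟨t, rfl⟩ := (mem_XG hD hr).1 ha
    obtain ⟨u, rfl⟩ := (mem_XG hD hs).1 hb'
    refine Subtype.ext ?_
    have hc := Rel.comm_GL (F := F) hD hr hs h1 h2 t u
    simp [ChevalleyDatum.commWord, he, Rel.wordGL] at hc
    simpa [xe] using hc.symm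
  have d1 : D.simple j ≠ D.simple i := fun e => hij (Weight.simple_inj hD hi hj e.symm)
  have d2 : D.simple j ≠ ns D i := fun e =>
    N.not_pos_neg hD (N.simple_pos hD hi) (show D.IsPosRoot (ns D i) from e ▸ N.simple_pos hD hj)
  refine ⟨main hp hq d1 d2 h'.1, main (Checks.neg_lt hD hp) (Checks.neg_lt hD hq) (fun e => d1 ?_) (fun e => d2 ?_) h'.2⟩
  · have e' : D.neg (D.simple j) = D.neg (D.simple i) := e
    rw [← Checks.neg_neg_root hD hq, e', Checks.neg_neg_root hD hp]
  · have e' : D.neg (D.simple j) = D.neg (D.neg (D.simple i)) := e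
    rw [← Checks.neg_neg_root hD hq, e', Checks.neg_neg_root hD hp]

theorem bonds_of_comm (hD : D ∈ dataList) {i j : ℕ} (hi : i < D.rank) (hj : j < D.rank) (hij : i ≠ j)
    (h1 : Comm (XG hD F (D.simple i)) (XG hD F (D.simple j)))
    (h2 : Comm (XG hD F (ns D i)) (XG hD F (ns D j))) : D.bonds i j = 0 := by
  by_contra hb
  have h := adjOK_all D hD
  simp only [adjOK, List.all_eq_true, List.mem_range, Bool.or_eq_true, beq_iff_eq] at h
  have h' := (h i hi j hj).resolve_left hij
  rw [if_neg hb, bne_iff_ne] at h'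
  have hp := Rel.simple_lt hD hi
  have hq := Rel.simple_lt hD hj
  have mem : ∀ {r : ℕ}, r < D.nroots → ∀ t : F, xe hD r t ∈ XG hD F r := fun hr t => xe_mem_XG hD hr t
  have c1 := h1 _ (mem hp (1 : F)) _ (mem hq (1 : F))
  have c2 := h2 _ (mem (Checks.neg_lt hD hp) (-(1 : F)⁻¹)) _ (mem (Checks.neg_lt hD hq) (-(1 : F)⁻¹))
  have c3 := comm_mixed (F := F) hD hi hj hij _ (mem hp (1 : F)) _ (mem (Checks.neg_lt hD hq) (-(1 : F)⁻¹))
  have c4 := comm_mixed (F := F) hD hj hi (Ne.symm hij) _ (mem hq (1 : F)) _ (mem (Checks.neg_lt hD hp) (-(1 : F)⁻¹))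
  have e1 : niG hD F i = xe hD (D.simple i) (1 : F) * xe hD (ns D i) (-(1 : F)⁻¹) * xe hD (D.simple i) (1 : F) :=
    Subtype.ext rfl
  have e2 : niG hD F j = xe hD (D.simple j) (1 : F) * xe hD (ns D j) (-(1 : F)⁻¹) * xe hD (D.simple j) (1 : F) :=
    Subtype.ext rfl
  have hc : Commute (niG hD F i) (niG hD F j) := by
    rw [e1, e2]
    have d1 : Commute (xe hD (D.simple i) (1 : F)) (xe hD (D.simple j) (1 : F)) := c1
    have d2 : Commute (xe hD (ns D i) (-(1 : F)⁻¹)) (xe hD (ns D j) (-(1 : F)⁻¹)) := c2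
    have d3 : Commute (xe hD (D.simple i) (1 : F)) (xe hD (ns D j) (-(1 : F)⁻¹)) := c3
    have d4 : Commute (xe hD (ns D i) (-(1 : F)⁻¹)) (xe hD (D.simple j) (1 : F)) := Commute.symm c4
    have a1 := (d1.mul_right d3).mul_right d1
    have a2 := (d4.mul_right d2).mul_right d4
    exact (a1.mul_left a2).mul_left a1
  refine h' ?_
  have := N.act_congr hD (F := F) (l := [i, j]) (m := [j, i]) (by simp [hi, hj]) (by simp [hi, hj])
    (one_mem _) (by
      have := congrArg Subtype.val hc.eq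
      simpa [N.nW] using this) hp
  simpa [N.act] using this

/-- images of nodes under the diagram automorphisms, built node by node -/
def symLevel (D : ChevalleyDatum) : ℕ → List (List ℕ)
  | 0 => [[]]
  | k + 1 => (symLevel D k).flatMap fun l => (((List.range D.rank).filter fun v => !l.contains v &&
      (List.range k).all fun j => (D.bonds v (l.getD j 0) == 0) == (D.bonds k j == 0))).map fun v => l ++ [v]

def symList (D : ChevalleyDatum) : List (List ℕ) := symLevel D D.rank

/-- the image list of a permutation of the nodes -/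
def imgs (π : Equiv.Perm (Fin D.rank)) : List ℕ := List.ofFn fun i => (π i).val

theorem imgs_injective {π π' : Equiv.Perm (Fin D.rank)} (h : imgs π = imgs π') : π = π' :=
  Equiv.ext fun i => Fin.ext (congrFun (List.ofFn_injective h) i)

theorem mem_symList (π : Equiv.Perm (Fin D.rank))
    (h : ∀ i j : Fin D.rank, i ≠ j → (D.bonds (π i) (π j) = 0 ↔ D.bonds i j = 0)) :
    imgs π ∈ symList D := by
  have key : ∀ k, k ≤ D.rank → (imgs π).take k ∈ symLevel D k := by
    intro k
    induction k with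
    | zero => intro _; simp [symLevel]
    | succ k ih =>
      intro hk
      have hk' : k < D.rank := hk
      have hlen : (imgs π).length = D.rank := by simp [imgs]
      simp only [symLevel, List.mem_flatMap, List.mem_map, List.mem_filter, List.mem_range, Bool.and_eq_true,
        List.all_eq_true, beq_iff_eq, Bool.not_eq_true', List.contains_eq_mem, decide_eq_false_iff_not,
        decide_eq_decide]
      refine ⟨_, ih (by omega), (π ⟨k, hk'⟩).val, ⟨(π ⟨k, hk'⟩).2, ?_, fun j hj => ?_⟩, ?_⟩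
      · intro hmem
        obtain ⟨m, hm, e⟩ := List.getElem_of_mem hmem
        rw [List.length_take, hlen] at hm
        rw [List.getElem_take] at e
        simp [imgs] at e
        have := congrArg Fin.val (π.injective (Fin.ext e))
        simp at this
        omega
      · have hj' : j < D.rank := hj.trans hk'
        rw [List.getD_eq_getElem _ _ (by rw [List.length_take, hlen]; omega), List.getElem_take]
        simp only [imgs, List.getElem_ofFn]
        rw [Bool.eq_iff_iff, beq_iff_eq, beq_iff_eq]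
        exact h ⟨k, hk'⟩ ⟨j, hj'⟩ (fun e => by simp at e; omega)
      · rw [List.take_succ_eq_append_getElem (by rw [hlen]; exact hk')]
        simp [imgs]
  have := key D.rank le_rfl
  rwa [List.take_of_length_le (by simp [imgs])] at this

theorem symList_bonds : ∀ D ∈ dataList, ∀ l ∈ symList D, ∀ i < D.rank, ∀ j < D.rank, i ≠ j →
    D.bonds (l.getD i 0) (l.getD j 0) = D.bonds i j := by
  intro D hD
  simp only [dataList, List.mem_cons, List.not_mem_nil, or_false] at hD
  rcases hD with rfl | rfl | rfl | rfl | rfl | rfl | rfl <;> decide +kernel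

theorem symmetry_of_zero (hD : D ∈ dataList) (π : Equiv.Perm (Fin D.rank))
    (h : ∀ i j : Fin D.rank, i ≠ j → (D.bonds (π i) (π j) = 0 ↔ D.bonds i j = 0)) : D.IsDiagramSymmetry π := by
  intro i j hij
  have := symList_bonds D hD _ (mem_symList π h) i i.2 j j.2 (fun e => hij (Fin.ext e))
  rw [List.getD_eq_getElem _ _ (by simp [imgs]), List.getD_eq_getElem _ _ (by simp [imgs])] at this
  simpa [imgs] using this

/-- `φ` carries the fundamental root subgroups and their negatives as `π` does -/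
def PermX (hD : D ∈ dataList) (φ : MulAut ↥(D.group F)) (π : Equiv.Perm (Fin D.rank)) : Prop :=
  ∀ i : Fin D.rank, (XG hD F (D.simple i)).map φ.toMonoidHom = XG hD F (D.simple (π i)) ∧
    (XG hD F (ns D i)).map φ.toMonoidHom = XG hD F (ns D (π i))

theorem PermX.inv (hD : D ∈ dataList) {φ : MulAut ↥(D.group F)} {π : Equiv.Perm (Fin D.rank)}
    (h : PermX hD φ π) : PermX hD φ⁻¹ π⁻¹ := by
  intro i
  have h' := h (π⁻¹ i)
  have key : ∀ {A B : Subgroup ↥(D.group F)}, A.map φ.toMonoidHom = B → B.map (φ⁻¹ : MulAut ↥(D.group F)).toMonoidHom = A := by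
    rintro A _ rfl
    rw [Subgroup.map_map]
    conv_rhs => rw [← Subgroup.map_id A]
    congr 1
    exact MonoidHom.ext fun z => φ.symm_apply_apply z
  constructor
  · have := key h'.1
    rwa [Equiv.Perm.coe_inv, Equiv.apply_symm_apply] at this
  · have := key h'.2
    rwa [Equiv.Perm.coe_inv, Equiv.apply_symm_apply] at this

theorem PermX.symmetry (hD : D ∈ dataList) {φ : MulAut ↥(D.group F)} {π : Equiv.Perm (Fin D.rank)}
    (h : PermX hD φ π) : D.IsDiagramSymmetry π := by
  refine symmetry_of_zero hD π fun i j hij => ?_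
  have fwd : ∀ {ψ : MulAut ↥(D.group F)} {ρ : Equiv.Perm (Fin D.rank)}, PermX hD ψ ρ → ∀ a b : Fin D.rank,
      a ≠ b → D.bonds a b = 0 → D.bonds (ρ a) (ρ b) = 0 := by
    intro ψ ρ hψ a b hab hb
    obtain ⟨c1, c2⟩ := comm_of_bonds (F := F) hD a.2 b.2 (fun e => hab (Fin.ext e)) hb
    refine bonds_of_comm (F := F) hD (ρ a).2 (ρ b).2 (fun e => hab (ρ.injective (Fin.ext e))) ?_ ?_
    · have := c1.map ψ; rwa [(hψ a).1, (hψ b).1] at this
    · have := c2.map ψ; rwa [(hψ a).2, (hψ b).2] at this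
  refine ⟨fun hb => ?_, fwd h i j hij⟩
  have := fwd (h.inv hD) (π i) (π j) (fun e => hij (π.injective e)) hb
  simpa using this

theorem XG_simple_inj (hD : D ∈ dataList) {i j : Fin D.rank}
    (h : XG hD F (D.simple i) = XG hD F (D.simple j)) : i = j := by
  obtain ⟨t, ht⟩ := (mem_XG hD (Rel.simple_lt hD j.2)).1 (h ▸ xe_mem_XG hD (Rel.simple_lt hD i.2) (1 : F))
  exact Fin.ext (Weight.simple_inj hD i.2 j.2
    (xe_root_inj hD (Rel.simple_lt hD i.2) (Rel.simple_lt hD j.2) one_ne_zero ht))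

theorem map_neg_simple [Finite F] (hD : D ∈ dataList) (φ : MulAut ↥(D.group F))
    (hU : (UG D F).map φ.toMonoidHom = UG D F) (hV : (VG D F).map φ.toMonoidHom = VG D F) (i : Fin D.rank) :
    ∃ j : Fin D.rank, (XG hD F (ns D i)).map φ.toMonoidHom = XG hD F (ns D j) := by
  have hB : (BG D F).map φ.toMonoidHom = BG D F := by
    rw [← normalizer_UG hD]
    conv_rhs => rw [← hU]
    exact Subgroup.map_equiv_normalizer_eq _ φ
  have hlt : BG D F < (PG hD F i).map φ.toMonoidHom := by
    rw [← hB]; exact Subgroup.map_lt_map_iff_of_injective φ.injective |>.2 (BG_lt_PG hD i)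
  obtain ⟨j, hj⟩ := exists_PG_le hD hlt
  refine ⟨j, ?_⟩
  have hcomap : (PG hD F j).comap φ.toMonoidHom = PG hD F i := by
    refine PG_atom hD i ?_ fun x hx => ?_
    · rw [← Subgroup.comap_map_eq_self_of_injective (f := φ.toMonoidHom) φ.injective (BG D F), hB]
      exact Subgroup.comap_lt_comap_of_surjective φ.surjective |>.2 (BG_lt_PG hD j)
    · obtain ⟨y, hy, e⟩ := hj hx
      exact φ.injective e ▸ hy
  have : (PG hD F i).map φ.toMonoidHom = PG hD F j := by
    rw [← hcomap, Subgroup.map_comap_eq_self_of_surjective (f := φ.toMonoidHom) φ.surjective]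
  rw [← PG_inf_VG hD i, Subgroup.map_inf _ _ _ φ.injective, this, hV, PG_inf_VG hD j]

theorem exists_perm [Finite F] (hD : D ∈ dataList) (φ : MulAut ↥(D.group F))
    (hU : (UG D F).map φ.toMonoidHom = UG D F) (hV : (VG D F).map φ.toMonoidHom = VG D F) :
    ∃ π : Equiv.Perm (Fin D.rank), PermX hD φ π ∧ D.IsDiagramSymmetry π := by
  obtain ⟨l, hl⟩ := exists_rev hD
  set c := MulAut.conj (wG hD F l hl.1)
  obtain ⟨m1, m2⟩ := map_UG (F := F) hD hl
  set ψ := c⁻¹ * φ * c
  have back : ∀ {A B : Subgroup ↥(D.group F)}, A.map c.toMonoidHom = B → B.map (c⁻¹ : MulAut ↥(D.group F)).toMonoidHom = A := by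
    rintro A _ rfl
    rw [Subgroup.map_map]
    conv_rhs => rw [← Subgroup.map_id A]
    congr 1
    exact MonoidHom.ext fun z => c.symm_apply_apply z
  have comp : ∀ (A : Subgroup ↥(D.group F)), A.map ψ.toMonoidHom =
      ((A.map c.toMonoidHom).map φ.toMonoidHom).map (c⁻¹ : MulAut ↥(D.group F)).toMonoidHom := fun A => by
    rw [Subgroup.map_map, Subgroup.map_map]; rfl
  have hψU : (UG D F).map ψ.toMonoidHom = UG D F := by rw [comp, m1, hV, back m1]
  have hψV : (VG D F).map ψ.toMonoidHom = VG D F := by rw [comp, m2, hU, back m2]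
  have star : ∀ a : Fin D.rank, ∃ b : Fin D.rank,
      (XG hD F (ns D a)).map c.toMonoidHom = XG hD F (D.simple b) := fun a => by
    obtain ⟨b, hb, e⟩ := rev_simple hD hl a.2
    refine ⟨⟨b, hb⟩, ?_⟩
    rw [map_XG hD hl.1 (Checks.neg_lt hD (Rel.simple_lt hD a.2)), N.act_neg hD hl.1 (Rel.simple_lt hD a.2), e,
      Checks.neg_neg_root hD (Rel.simple_lt hD hb)]
  choose σ hσ using star
  have σinj : Function.Injective σ := fun a b e => by
    have h := (hσ a).trans ((congrArg (fun z : Fin D.rank => XG hD F (D.simple z)) e).trans (hσ b).symm)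
    have h' := Subgroup.map_injective c.injective h
    obtain ⟨t, ht⟩ := (mem_XG hD (Checks.neg_lt hD (Rel.simple_lt hD b.2))).1
      (h' ▸ xe_mem_XG hD (Checks.neg_lt hD (Rel.simple_lt hD a.2)) (1 : F))
    have := xe_root_inj hD (Checks.neg_lt hD (Rel.simple_lt hD a.2)) (Checks.neg_lt hD (Rel.simple_lt hD b.2))
      one_ne_zero ht
    exact Fin.ext (Weight.simple_inj hD a.2 b.2 (by
      rw [← Checks.neg_neg_root hD (Rel.simple_lt hD a.2), this, Checks.neg_neg_root hD (Rel.simple_lt hD b.2)]))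
  have pos : ∀ i : Fin D.rank, ∃ j : Fin D.rank,
      (XG hD F (D.simple i)).map φ.toMonoidHom = XG hD F (D.simple j) := fun i => by
    obtain ⟨a, rfl⟩ := (Finite.injective_iff_surjective.1 σinj) i
    obtain ⟨b, hb⟩ := map_neg_simple hD ψ hψU hψV a
    refine ⟨σ b, ?_⟩
    have hcc : c.toMonoidHom.comp (c⁻¹ : MulAut ↥(D.group F)).toMonoidHom = MonoidHom.id _ :=
      MonoidHom.ext fun z => c.apply_symm_apply z
    have h := congrArg (Subgroup.map c.toMonoidHom) hb
    rwa [comp, Subgroup.map_map _ c.toMonoidHom, hcc, Subgroup.map_id, hσ, hσ] at h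
  choose π' hπ' using pos
  choose π hπ using map_neg_simple hD φ hU hV
  have heq : ∀ i, π' i = π i := fun i => by
    by_contra hne
    refine not_comm_self (F := F) hD i.2 fun a ha b hb => φ.injective ?_
    rw [map_mul, map_mul]
    exact comm_mixed hD (π' i).2 (π i).2 (fun e => hne (Fin.ext e)) _ (hπ' i ▸ Subgroup.mem_map_of_mem _ ha) _
      (hπ i ▸ Subgroup.mem_map_of_mem _ hb)
  have πinj : Function.Injective π := fun a b e => by
    have h := (hπ' a).trans ((congrArg (fun z : Fin D.rank => XG hD F (D.simple z))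
      (show π' a = π' b by rw [heq, heq, e])).trans (hπ' b).symm)
    exact XG_simple_inj hD (Subgroup.map_injective φ.injective h)
  let P := Equiv.ofBijective π (Finite.injective_iff_bijective.1 πinj)
  have hP : PermX hD φ P := fun i => ⟨by rw [hπ' i, heq i]; rfl, hπ i⟩
  exact ⟨P, hP, hP.symmetry hD⟩

end CfsgLib.Chev.Aut
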